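import Mathlib.GroupTheory.Transfer
import Mathlib.GroupTheory.Sylow
import Cfsg.Agent.ZN.ChoiceSit
import Cfsg.Agent.S0537

/-!
# LEMMA LINES (CARD RWIDE [A2], helper640 #24700 (A))

`K` acts faithfully on the abelian 2-group `Y`, the Sylow 2-subgroup `P` is central in its normaliser and every
`P`-fixed vector is `K`-fixed: then `K = P` (Burnside's transfer theorem and coprime action).

* `sylow_eq_top` : the abstract form;
* `normalizer_le` : `P` is central in its normaliser if `Y = R₁ × R₂`, `P` normalises `R₁` and `R₂` and acts on each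
  of them as an abelian group with at most one involution (field automorphisms of two lines);
* **`le_sup_of`**, **`le_sup_lines`** : the forms for subgroups of a group: `C = C_C(Y) S`.
-/

set_option autoImplicit false
set_option linter.unusedSectionVars false

namespace Cfsg.Agent.Omega.NOThreeL.RShape.Lines

open Subgroup
open Cfsg.Agent.ZN.ChoiceSit (Syl syl_iff)
open scoped Pointwise

section abs

variable {K : Type*} [Group K] [Finite K] {Y : Type*} [CommGroup Y] [Finite Y] [MulDistribMulAction K Y]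

/-- a normal subgroup of odd order acts trivially if every `P`-fixed vector is fixed by it -/
theorem odd_trivial (hY : IsPGroup 2 Y) (P N : Subgroup K) (hP : IsPGroup 2 P) (hN : N.Normal)
    (hodd : Odd (Nat.card N)) (hfix : ∀ y : Y, (∀ g ∈ P, g • y = y) → ∀ g ∈ N, g • y = y) :
    ∀ g ∈ N, ∀ y : Y, g • y = y := by
  classical
  have : Fintype N := Fintype.ofFinite N
  let τ : Y →* Y :=
    { toFun := fun y => ∏ n : N, (n : K) • y
      map_one' := by simp
      map_mul' := fun a b => by simp only [smul_mul', Finset.prod_mul_distrib] }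
  have hτ1 : ∀ y : Y, ∀ m ∈ N, τ (m • y) = τ y := by
    intro y m hm
    change ∏ n : N, (n : K) • m • y = ∏ n : N, (n : K) • y
    refine Fintype.prod_equiv (Equiv.mulRight (⟨m, hm⟩ : N)) _ _ fun n => ?_
    simp [mul_smul]
  have hτ2 : ∀ g : K, ∀ y : Y, τ (g • y) = g • τ y := by
    intro g y
    change ∏ n : N, (n : K) • g • y = g • ∏ n : N, (n : K) • y
    rw [Finset.smul_prod']
    have hc : ∀ n : N, g⁻¹ * (n : K) * g ∈ N := fun n => by
      have := hN.conj_mem n n.2 g⁻¹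
      simpa using this
    have hc' : ∀ n : N, g * (n : K) * g⁻¹ ∈ N := fun n => hN.conj_mem n n.2 g
    let e : N ≃ N :=
      { toFun := fun n => ⟨_, hc n⟩
        invFun := fun n => ⟨_, hc' n⟩
        left_inv := fun n => by ext; simp [mul_assoc]
        right_inv := fun n => by ext; simp [mul_assoc] }
    refine Fintype.prod_equiv e _ _ fun n => ?_
    change (n : K) • g • y = g • (g⁻¹ * (n : K) * g) • y
    simp only [← mul_smul]
    congr 1
    group
  have hτ3 : ∀ y : Y, (∀ g ∈ N, g • y = y) → τ y = y ^ Nat.card N := by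
    intro y hy
    change ∏ n : N, (n : K) • y = _
    rw [Finset.prod_congr rfl fun (n : N) _ => hy n n.2]
    simp [Nat.card_eq_fintype_card]
  -- the kernel of `τ` is trivial
  have hker : τ.ker = ⊥ := by
    by_contra hne
    have hinv : ∀ g : P, ∀ y ∈ τ.ker, (g : K) • y ∈ τ.ker := by
      intro g y hy
      rw [MonoidHom.mem_ker] at hy ⊢
      rw [hτ2, hy, smul_one]
    let _ : MulAction P τ.ker :=
      { smul := fun g y => ⟨(g : K) • (y : Y), hinv g y y.2⟩
        one_smul := fun y => Subtype.ext (one_smul K (y : Y))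
        mul_smul := fun g h y => Subtype.ext (mul_smul (g : K) (h : K) (y : Y)) }
    have hk2 : IsPGroup 2 τ.ker := hY.to_subgroup _
    have : Nontrivial τ.ker := (Subgroup.nontrivial_iff_ne_bot _).2 hne
    have hdvd : 2 ∣ Nat.card τ.ker := by
      obtain ⟨n, hn0, hn⟩ := hk2.nontrivial_iff_card.mp inferInstance
      rw [hn]
      exact dvd_pow_self 2 (by omega)
    have h1 : (1 : τ.ker) ∈ MulAction.fixedPoints P τ.ker := by
      intro g
      exact Subtype.ext (smul_one (g : K))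
    obtain ⟨b, hb, hb1⟩ := hP.exists_fixed_point_of_prime_dvd_card_of_fixed_point τ.ker hdvd h1
    have hbP : ∀ g ∈ P, g • (b : Y) = b := fun g hg => congrArg Subtype.val (hb ⟨g, hg⟩)
    have hbN := hfix _ hbP
    have h2 : (b : Y) ^ Nat.card N = 1 := by rw [← hτ3 _ hbN]; exact b.2
    obtain ⟨k, hk⟩ := hY (b : Y)
    have hcop : Nat.Coprime (Nat.card N) (2 ^ k) := (Nat.coprime_two_right.2 hodd).pow_right k
    have h3 : orderOf (b : Y) ∣ 1 := by
      rw [← hcop.gcd_eq_one]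
      exact Nat.dvd_gcd (orderOf_dvd_of_pow_eq_one h2) (orderOf_dvd_of_pow_eq_one hk)
    have h4 : (b : Y) = 1 := orderOf_eq_one_iff.1 (Nat.dvd_one.1 h3)
    exact hb1 (Subtype.ext h4.symm)
  intro g hg y
  have h5 : (g • y) * y⁻¹ ∈ τ.ker := by
    rw [MonoidHom.mem_ker, map_mul, hτ1 y g hg, map_inv, mul_inv_cancel]
  rw [hker, Subgroup.mem_bot] at h5
  exact mul_inv_eq_one.1 h5

/-- **faithful, Sylow central in its normaliser, `P`-fixed vectors are `K`-fixed: `K = P`** -/
theorem sylow_eq_top (hY : IsPGroup 2 Y) (hf : ∀ g : K, (∀ y : Y, g • y = y) → g = 1) (P : Sylow 2 K)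
    (hP : normalizer ((P : Subgroup K) : Set K) ≤ centralizer ((P : Subgroup K) : Set K))
    (hfix : ∀ y : Y, (∀ g ∈ (P : Subgroup K), g • y = y) → ∀ g : K, g • y = y) : (P : Subgroup K) = ⊤ := by
  have hc := MonoidHom.ker_transferSylow_isComplement' P hP
  set N := (MonoidHom.transferSylow P hP).ker with hNdef
  have hN : N.Normal := by rw [hNdef]; infer_instance
  have hodd : Odd (Nat.card N) := by
    have h1 : (P : Subgroup K).index = Nat.card N := hc.index_eq_card
    have h2 : ¬ 2 ∣ (P : Subgroup K).index := P.not_dvd_index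
    rw [h1] at h2
    exact Nat.not_even_iff_odd.1 fun h => h2 (even_iff_two_dvd.1 h)
  have h3 := odd_trivial hY (P : Subgroup K) N P.2 hN hodd fun y hy g _ => hfix y hy g
  have h4 : N = ⊥ := by
    rw [eq_bot_iff]
    intro g hg
    exact Subgroup.mem_bot.2 (hf g (h3 g hg))
  have h5 := hc.sup_eq_top
  rwa [h4, bot_sup_eq] at h5

/-- `P` acts on `R` as an abelian group with at most one involution -/
structure FL (P : Subgroup K) (R : Subgroup Y) : Prop where
  inv : ∀ g ∈ P, ∀ y ∈ R, g • y ∈ R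
  comm : ∀ g ∈ P, ∀ h ∈ P, ∀ y ∈ R, g • h • y = h • g • y
  uniq : ∀ g ∈ P, ∀ h ∈ P, (∀ y ∈ R, g • g • y = y) → (∀ y ∈ R, h • h • y = y) →
    (∃ y ∈ R, g • y ≠ y) → (∃ y ∈ R, h • y ≠ y) → ∀ y ∈ R, g • y = h • y

/-- the fixed vectors -/
def fx (Y : Type*) [CommGroup Y] [MulDistribMulAction K Y] (g : K) : Subgroup Y where
  carrier := {y | g • y = y}
  one_mem' := smul_one g
  mul_mem' := by
    intro a b ha hb
    change g • (a * b) = a * b
    rw [smul_mul', show g • a = a from ha, show g • b = b from hb]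
  inv_mem' := by
    intro a ha
    change g • a⁻¹ = a⁻¹
    rw [smul_inv', show g • a = a from ha]

theorem mem_fx {g : K} {y : Y} : y ∈ fx Y g ↔ g • y = y := Iff.rfl

/-- conjugate elements have the same number of fixed vectors -/
theorem card_fx_conj (x g : K) : Nat.card (fx Y (x * g * x⁻¹)) = Nat.card (fx Y g) := by
  refine Nat.card_congr
    { toFun := fun y => ⟨x⁻¹ • (y : Y), ?_⟩
      invFun := fun y => ⟨x • (y : Y), ?_⟩
      left_inv := fun y => by ext; simp
      right_inv := fun y => by ext; simp }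
  · have h : (x * g * x⁻¹) • (y : Y) = y := y.2
    calc g • x⁻¹ • (y : Y) = x⁻¹ • (x * g * x⁻¹) • (y : Y) := by
          simp only [← mul_smul]
          congr 1
          group
      _ = x⁻¹ • (y : Y) := by rw [h]
  · have h : g • (y : Y) = y := y.2
    calc (x * g * x⁻¹) • x • (y : Y) = x • g • (y : Y) := by
          simp only [← mul_smul]
          congr 1
          group
      _ = x • (y : Y) := by rw [h]

theorem card_fx_lt {g h : K} (hle : fx Y g ≤ fx Y h) (hne : ∃ y : Y, h • y = y ∧ g • y ≠ y) :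
    Nat.card (fx Y g) < Nat.card (fx Y h) := by
  obtain ⟨y, h1, h2⟩ := hne
  refine Set.ncard_lt_ncard (s := (fx Y g : Set Y)) (t := (fx Y h : Set Y)) ?_ (Set.toFinite _)
  exact ⟨hle, fun hh => h2 (hh h1)⟩

/-- the support -/
def mv (R : Subgroup Y) (g : K) : Prop := ∃ y ∈ R, g • y ≠ y

section two

variable {P : Subgroup K} {R₁ R₂ : Subgroup Y}

theorem exists_two (hs : R₁ ⊔ R₂ = ⊤) (y : Y) : ∃ a ∈ R₁, ∃ b ∈ R₂, a * b = y := by
  have h : y ∈ R₁ ⊔ R₂ := hs ▸ Subgroup.mem_top y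
  exact Subgroup.mem_sup.1 h

theorem ext2 (hf : ∀ g : K, (∀ y : Y, g • y = y) → g = 1) (hs : R₁ ⊔ R₂ = ⊤) {g h : K}
    (e1 : ∀ y ∈ R₁, g • y = h • y) (e2 : ∀ y ∈ R₂, g • y = h • y) : g = h := by
  have : h⁻¹ * g = 1 := hf _ fun y => by
    obtain ⟨a, ha, b, hb, rfl⟩ := exists_two hs y
    rw [mul_smul, smul_mul', e1 a ha, e2 b hb, ← smul_mul', inv_smul_smul]
  exact (inv_mul_eq_one.1 this).symm

theorem fx_le (h1 : FL P R₁) (h2 : FL P R₂) (hs : R₁ ⊔ R₂ = ⊤) (hd : R₁ ⊓ R₂ = ⊥) {g h : K}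
    (hg : g ∈ P) (hh : h ∈ P) (g2 : ∀ y : Y, g • g • y = y) (hh2 : ∀ y : Y, h • h • y = y)
    (c1 : mv R₁ h → mv R₁ g) (c2 : mv R₂ h → mv R₂ g) : fx Y g ≤ fx Y h := by
  intro y hy
  obtain ⟨a, ha, b, hb, rfl⟩ := exists_two hs y
  have h3 : g • (a * b) = a * b := hy
  rw [smul_mul'] at h3
  have h4 : g • a * a⁻¹ = b * (g • b)⁻¹ := by
    rw [eq_mul_inv_iff_mul_eq, mul_right_comm, h3]
    simp
  have h5 : g • a * a⁻¹ ∈ R₁ ⊓ R₂ :=
    ⟨R₁.mul_mem (h1.inv g hg a ha) (R₁.inv_mem ha), h4 ▸ R₂.mul_mem hb (R₂.inv_mem (h2.inv g hg b hb))⟩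
  rw [hd, Subgroup.mem_bot] at h5
  have ha' : g • a = a := mul_inv_eq_one.1 h5
  have hb' : g • b = b := by
    rw [ha'] at h3
    exact mul_left_cancel h3
  have ha'' : h • a = a := by
    by_cases hm : mv R₁ h
    · rw [← h1.uniq g hg h hh (fun y _ => g2 y) (fun y _ => hh2 y) (c1 hm) hm a ha, ha']
    · by_contra hne
      exact hm ⟨a, ha, hne⟩
  have hb'' : h • b = b := by
    by_cases hm : mv R₂ h
    · rw [← h2.uniq g hg h hh (fun y _ => g2 y) (fun y _ => hh2 y) (c2 hm) hm b hb, hb']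
    · by_contra hne
      exact hm ⟨b, hb, hne⟩
  change h • (a * b) = a * b
  rw [smul_mul', ha'', hb'']

theorem eq_of (hf : ∀ g : K, (∀ y : Y, g • y = y) → g = 1) (h1 : FL P R₁) (h2 : FL P R₂)
    (hs : R₁ ⊔ R₂ = ⊤) {g h : K}
    (hg : g ∈ P) (hh : h ∈ P) (g2 : ∀ y : Y, g • g • y = y) (hh2 : ∀ y : Y, h • h • y = y)
    (c1 : mv R₁ h ↔ mv R₁ g) (c2 : mv R₂ h ↔ mv R₂ g) : g = h := by
  refine ext2 hf hs (fun y hy => ?_) fun y hy => ?_
  · by_cases hm : mv R₁ h
    · exact h1.uniq g hg h hh (fun y _ => g2 y) (fun y _ => hh2 y) (c1.1 hm) hm y hy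
    · have e1 : h • y = y := by
        by_contra hne
        exact hm ⟨y, hy, hne⟩
      have e2 : g • y = y := by
        by_contra hne
        exact hm (c1.2 ⟨y, hy, hne⟩)
      rw [e1, e2]
  · by_cases hm : mv R₂ h
    · exact h2.uniq g hg h hh (fun y _ => g2 y) (fun y _ => hh2 y) (c2.1 hm) hm y hy
    · have e1 : h • y = y := by
        by_contra hne
        exact hm ⟨y, hy, hne⟩
      have e2 : g • y = y := by
        by_contra hne
        exact hm (c2.2 ⟨y, hy, hne⟩)
      rw [e1, e2]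

/-- comparable supports and the same number of fixed vectors: equal -/
theorem eq_of_card (hf : ∀ g : K, (∀ y : Y, g • y = y) → g = 1) (h1 : FL P R₁) (h2 : FL P R₂)
    (hs : R₁ ⊔ R₂ = ⊤) (hd : R₁ ⊓ R₂ = ⊥) {g h : K}
    (hg : g ∈ P) (hh : h ∈ P) (g2 : ∀ y : Y, g • g • y = y) (hh2 : ∀ y : Y, h • h • y = y)
    (c1 : mv R₁ h → mv R₁ g) (c2 : mv R₂ h → mv R₂ g) (hc : Nat.card (fx Y g) = Nat.card (fx Y h)) : g = h := by
  have hle := fx_le h1 h2 hs hd hg hh g2 hh2 c1 c2
  refine eq_of hf h1 h2 hs hg hh g2 hh2 ⟨c1, fun hm => ?_⟩ ⟨c2, fun hm => ?_⟩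
  · by_contra hn
    obtain ⟨y, hy, hne⟩ := hm
    have e1 : h • y = y := by
      by_contra hne
      exact hn ⟨y, hy, hne⟩
    exact (card_fx_lt hle ⟨y, e1, hne⟩).ne hc
  · by_contra hn
    obtain ⟨y, hy, hne⟩ := hm
    have e1 : h • y = y := by
      by_contra hne
      exact hn ⟨y, hy, hne⟩
    exact (card_fx_lt hle ⟨y, e1, hne⟩).ne hc

/-- the alternatives for two involutions with the same number of fixed vectors -/
theorem alt (hf : ∀ g : K, (∀ y : Y, g • y = y) → g = 1) (h1 : FL P R₁) (h2 : FL P R₂)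
    (hs : R₁ ⊔ R₂ = ⊤) (hd : R₁ ⊓ R₂ = ⊥) {g h : K}
    (hg : g ∈ P) (hh : h ∈ P) (g2 : ∀ y : Y, g • g • y = y) (hh2 : ∀ y : Y, h • h • y = y)
    (hc : Nat.card (fx Y g) = Nat.card (fx Y h)) :
    g = h ∨ (mv R₁ g ∧ ¬ mv R₁ h ∧ ¬ mv R₂ g ∧ mv R₂ h) ∨ (¬ mv R₁ g ∧ mv R₁ h ∧ mv R₂ g ∧ ¬ mv R₂ h) := by
  have e1 := eq_of_card hf h1 h2 hs hd hg hh g2 hh2 (hc := hc)
  have e2 := eq_of_card hf h1 h2 hs hd hh hg hh2 g2 (hc := hc.symm)
  by_cases a1 : mv R₁ g <;> by_cases a2 : mv R₁ h <;> by_cases a3 : mv R₂ g <;> by_cases a4 : mv R₂ h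
  all_goals first
    | exact Or.inl (e1 (fun _ => by assumption) (fun _ => by assumption))
    | exact Or.inl (e2 (fun _ => by assumption) (fun _ => by assumption)).symm
    | exact Or.inl (e1 (fun h => absurd h (by assumption)) (fun _ => by assumption))
    | exact Or.inl (e1 (fun _ => by assumption) (fun h => absurd h (by assumption)))
    | exact Or.inl (e1 (fun h => absurd h (by assumption)) (fun h => absurd h (by assumption)))
    | exact Or.inl (e2 (fun h => absurd h (by assumption)) (fun _ => by assumption)).symm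
    | exact Or.inl (e2 (fun _ => by assumption) (fun h => absurd h (by assumption))).symm
    | exact Or.inl (e2 (fun h => absurd h (by assumption)) (fun h => absurd h (by assumption))).symm
    | exact Or.inr (Or.inl ⟨by assumption, by assumption, by assumption, by assumption⟩)
    | exact Or.inr (Or.inr ⟨by assumption, by assumption, by assumption, by assumption⟩)

/-- an element of odd order which commutes with `g` up to a square -/
theorem commute_of_sq {x g : K} (hx : Odd (orderOf x)) (h : x * x * g = g * (x * x)) : x * g = g * x := by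
  have h1 : Commute (x ^ 2) g := by
    rw [pow_two]
    exact h
  obtain ⟨k, hk⟩ := hx
  have h2 : (x ^ 2) ^ (k + 1) = x := by
    rw [← pow_mul]
    have : 2 * (k + 1) = orderOf x + 1 := by omega
    rw [this, pow_succ, pow_orderOf_eq_one, one_mul]
  have h3 := h1.pow_left (k + 1)
  rw [h2] at h3
  exact h3

/-- odd elements of `N(P)` centralise the involutions of `P` -/
theorem commute_inv (hf : ∀ g : K, (∀ y : Y, g • y = y) → g = 1) (h1 : FL P R₁) (h2 : FL P R₂)
    (hs : R₁ ⊔ R₂ = ⊤) (hd : R₁ ⊓ R₂ = ⊥) {x : K} (hx : x ∈ normalizer (P : Set K))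
    (ho : Odd (orderOf x)) {g : K} (hg : g ∈ P) (g2 : g * g = 1) : x * g = g * x := by
  have hP : ∀ h ∈ P, x * h * x⁻¹ ∈ P := fun h hh => (mem_normalizer_iff.1 hx h).1 hh
  have sq : ∀ h : K, h * h = 1 → (x * h * x⁻¹) * (x * h * x⁻¹) = 1 := by
    intro h hh
    have e : (x * h * x⁻¹) * (x * h * x⁻¹) = x * (h * h) * x⁻¹ := by group
    rw [e, hh]
    group
  have act : ∀ h : K, h * h = 1 → ∀ y : Y, h • h • y = y := fun h hh y => by rw [← mul_smul, hh, one_smul]
  set h := x * g * x⁻¹ with hdef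
  have hh : h ∈ P := hP g hg
  have hh2 : h * h = 1 := sq g g2
  set k := x * h * x⁻¹ with kdef
  have hk : k ∈ P := hP h hh
  have hk2 : k * k = 1 := sq h hh2
  have c1 : Nat.card (fx Y g) = Nat.card (fx Y h) := (card_fx_conj x g).symm
  have c2 : Nat.card (fx Y h) = Nat.card (fx Y k) := (card_fx_conj x h).symm
  have done : g = h → x * g = g * x := by
    intro e
    have e2 : x * g * x⁻¹ = g := by rw [← hdef, ← e]
    exact mul_inv_eq_iff_eq_mul.1 e2
  rcases alt hf h1 h2 hs hd hg hh (act g g2) (act h hh2) c1 with e | e | e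
  · exact done e
  · rcases alt hf h1 h2 hs hd hh hk (act h hh2) (act k hk2) c2 with e' | e' | e'
    · exact done (by
        have : x * g * x⁻¹ = x * h * x⁻¹ := by rw [← hdef, ← kdef]; exact e'
        exact mul_left_cancel (mul_right_cancel this))
    · exact absurd e'.1 e.2.1
    · have e3 : g = k := eq_of hf h1 h2 hs hg hk (act g g2) (act k hk2)
        ⟨fun _ => e.1, fun _ => e'.2.1⟩ ⟨fun h => absurd h e'.2.2.2, fun h => absurd h e.2.2.1⟩
      refine commute_of_sq ho ?_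
      have e4 : x * (x * g * x⁻¹) * x⁻¹ = g := by rw [← hdef, ← kdef]; exact e3.symm
      calc x * x * g = x * (x * g * x⁻¹) * x⁻¹ * (x * x) := by group
        _ = g * (x * x) := by rw [e4]
  · rcases alt hf h1 h2 hs hd hh hk (act h hh2) (act k hk2) c2 with e' | e' | e'
    · exact done (by
        have : x * g * x⁻¹ = x * h * x⁻¹ := by rw [← hdef, ← kdef]; exact e'
        exact mul_left_cancel (mul_right_cancel this))
    · have e3 : g = k := eq_of hf h1 h2 hs hg hk (act g g2) (act k hk2)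
        ⟨fun h => absurd h e'.2.1, fun h => absurd h e.1⟩ ⟨fun _ => e.2.2.1, fun _ => e'.2.2.2⟩
      refine commute_of_sq ho ?_
      have e4 : x * (x * g * x⁻¹) * x⁻¹ = g := by rw [← hdef, ← kdef]; exact e3.symm
      calc x * x * g = x * (x * g * x⁻¹) * x⁻¹ * (x * x) := by group
        _ = g * (x * x) := by rw [e4]
    · exact absurd e'.2.2.1 e.2.2.2

end two

/-- **`P` is central in its normaliser** -/
theorem normalizer_le (hf : ∀ g : K, (∀ y : Y, g • y = y) → g = 1) (P : Sylow 2 K) {R₁ R₂ : Subgroup Y}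
    (h1 : FL (P : Subgroup K) R₁) (h2 : FL (P : Subgroup K) R₂) (hs : R₁ ⊔ R₂ = ⊤) (hd : R₁ ⊓ R₂ = ⊥) :
    normalizer ((P : Subgroup K) : Set K) ≤ centralizer ((P : Subgroup K) : Set K) := by
  have hab : ∀ g ∈ (P : Subgroup K), ∀ h ∈ (P : Subgroup K), g * h = h * g := by
    intro g hg h hh
    refine ext2 hf hs (fun y hy => ?_) fun y hy => ?_
    · rw [mul_smul, mul_smul]; exact h1.comm g hg h hh y hy
    · rw [mul_smul, mul_smul]; exact h2.comm g hg h hh y hy
  intro g hg
  obtain ⟨k, m, hm, hcm⟩ := Nat.exists_eq_two_pow_mul_odd (n := orderOf g) (orderOf_pos g).ne'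
  -- the 2-part
  have hcop : Nat.Coprime m (2 ^ k) := (Nat.coprime_two_right.2 hm).pow_right k
  have ha : g ^ m ∈ (P : Subgroup K) := by
    have hp : IsPGroup 2 (zpowers (g ^ m)) := by
      refine IsPGroup.of_card (n := k) ?_
      rw [Nat.card_zpowers, orderOf_pow_of_dvd hm.pos.ne' ⟨2 ^ k, by rw [hcm, mul_comm]⟩, hcm]
      exact Nat.mul_div_cancel _ hm.pos
    have hle : zpowers (g ^ m) ≤ normalizer ((P : Subgroup K) : Set K) := by
      rw [zpowers_le]
      exact pow_mem hg m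
    have h3 : IsPGroup 2 (((P : Subgroup K) ⊔ zpowers (g ^ m) : Subgroup K)) := by
      exact P.2.to_sup_of_normal_left' hp hle
    have h4 := P.3 h3 le_sup_left
    have h5 : zpowers (g ^ m) ≤ (P : Subgroup K) := by
      conv_rhs => rw [← h4]
      exact le_sup_right
    exact h5 (mem_zpowers _)
  -- the odd part
  have hb : ∀ h ∈ (P : Subgroup K), g ^ (2 ^ k) * h = h * g ^ (2 ^ k) := by
    have hbn : g ^ (2 ^ k) ∈ normalizer ((P : Subgroup K) : Set K) := pow_mem hg _
    have hbo : orderOf (g ^ (2 ^ k)) = m := by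
      rw [orderOf_pow_of_dvd (by positivity) ⟨m, by rw [hcm]⟩, hcm]
      exact Nat.mul_div_cancel_left _ (by positivity)
    intro h hh
    obtain ⟨l, hl⟩ := P.2 ⟨h, hh⟩
    have hl' : h ^ 2 ^ l = 1 := congrArg Subtype.val hl
    refine Cfsg.Agent.S0537.commute_of_commute_omega (P : Subgroup K) 2 hab _
      (fun x hx => (mem_normalizer_iff.1 hbn x).1 hx) m (Nat.coprime_two_right.2 hm)
      (by rw [← hbo]; exact pow_orderOf_eq_one _) (fun x hx hx2 => ?_) l h hh hl'
    exact commute_inv hf h1 h2 hs hd hbn (by rw [hbo]; exact hm) hx (by rw [← pow_two]; exact hx2)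
  rw [mem_centralizer_iff]
  intro h hh
  obtain ⟨u, hu⟩ : ∃ u : ℤ × ℤ, (m : ℤ) * u.1 + (2 ^ k : ℕ) * u.2 = 1 := by
    have := Nat.gcd_eq_gcd_ab m (2 ^ k)
    rw [hcop.gcd_eq_one] at this
    exact ⟨(_, _), by exact_mod_cast this.symm⟩
  have e : g = (g ^ m) ^ u.1 * (g ^ (2 ^ k)) ^ u.2 := by
    rw [← zpow_natCast g m, ← zpow_natCast g (2 ^ k), ← zpow_mul, ← zpow_mul, ← zpow_add, hu, zpow_one]
  have c1 : Commute h ((g ^ m) ^ u.1) := Commute.zpow_right (hab h hh _ ha) _
  have c2 : Commute h ((g ^ (2 ^ k)) ^ u.2) := Commute.zpow_right (hb h hh).symm _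
  rw [e]
  exact c1.mul_right c2

end abs

/-! ### Subgroups of a group -/

section grp

variable {G : Type*} [Group G] [Finite G]

/-- the action of `C / C_C(Y)` on `Y`, as a subgroup of `Y ≃* Y` -/
def rho (C Y : Subgroup G) (hC : C ≤ normalizer (Y : Set G)) : C →* MulAut Y where
  toFun c :=
    { toFun := fun y => ⟨(c : G) * y * (c : G)⁻¹, (mem_normalizer_iff.1 (hC c.2) y).1 y.2⟩
      invFun := fun y => ⟨(c : G)⁻¹ * y * (c : G), by
        have := (mem_normalizer_iff.1 (hC (inv_mem c.2)) y).1 y.2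
        simpa using this⟩
      left_inv := fun y => Subtype.ext (by simp [mul_assoc])
      right_inv := fun y => Subtype.ext (by simp [mul_assoc])
      map_mul' := fun a b => Subtype.ext (by simp [mul_assoc]) }
  map_one' := by ext y; simp
  map_mul' a b := by ext y; simp [mul_assoc]

theorem rho_apply {C Y : Subgroup G} (hC : C ≤ normalizer (Y : Set G)) (c : C) (y : Y) :
    ((rho C Y hC c y : Y) : G) = (c : G) * y * (c : G)⁻¹ := rfl

/-- the hypotheses for one line: `S` acts on `R` as an abelian group with at most one involution -/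
structure FLG (S R : Subgroup G) : Prop where
  inv : ∀ g ∈ S, ∀ y ∈ R, g * y * g⁻¹ ∈ R
  comm : ∀ g ∈ S, ∀ h ∈ S, ∀ y ∈ R, g * (h * y * h⁻¹) * g⁻¹ = h * (g * y * g⁻¹) * h⁻¹
  uniq : ∀ g ∈ S, ∀ h ∈ S, (∀ y ∈ R, g * (g * y * g⁻¹) * g⁻¹ = y) → (∀ y ∈ R, h * (h * y * h⁻¹) * h⁻¹ = y) →
    (∃ y ∈ R, g * y * g⁻¹ ≠ y) → (∃ y ∈ R, h * y * h⁻¹ ≠ y) → ∀ y ∈ R, g * y * g⁻¹ = h * y * h⁻¹

/-- **`C = C_C(Y) S`**, general form: the image of `S` in `Aut(Y)` is central in its normaliser in the image of `C` -/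
theorem le_sup_of {C S Y : Subgroup G} (hS : Syl S C) (hY : IsPGroup 2 Y) (hYc : ∀ x ∈ Y, ∀ y ∈ Y, x * y = y * x)
    (hC : C ≤ normalizer (Y : Set G))
    (hP : ∀ P : Sylow 2 (rho C Y hC).range, ((S.subgroupOf C).map (rho C Y hC).rangeRestrict) = P →
      normalizer ((P : Subgroup (rho C Y hC).range) : Set (rho C Y hC).range) ≤
        centralizer ((P : Subgroup (rho C Y hC).range) : Set (rho C Y hC).range))
    (hfix : ∀ y ∈ Y, (∀ s ∈ S, s * y * s⁻¹ = y) → ∀ c ∈ C, c * y * c⁻¹ = y) :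
    C ≤ (C ⊓ centralizer (Y : Set G)) ⊔ S := by
  let _ : CommGroup Y := { (inferInstance : Group Y) with mul_comm := fun a b => Subtype.ext (hYc a a.2 b b.2) }
  obtain ⟨P₀, hP₀⟩ := syl_iff.1 hS
  have e0 : (P₀ : Subgroup C) = S.subgroupOf C := by
    rw [← hP₀]
    exact (Subgroup.comap_map_eq_self_of_injective C.subtype_injective _).symm
  set f := (rho C Y hC).rangeRestrict with hf
  have hfs : Function.Surjective f := (rho C Y hC).rangeRestrict_surjective
  let P : Sylow 2 (rho C Y hC).range := P₀.mapSurjective hfs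
  have hPc : (P : Subgroup (rho C Y hC).range) = (S.subgroupOf C).map f := by
    rw [Sylow.coe_mapSurjective, e0]
  have act_def : ∀ (c : C) (y : Y), ((f c • y : Y) : G) = (c : G) * y * (c : G)⁻¹ := fun c y => rfl
  have htop := sylow_eq_top (K := (rho C Y hC).range) (Y := Y) hY
    (fun g hg => Subtype.ext (MulEquiv.ext fun y => hg y)) P (hP P hPc.symm) (by
      intro y hy g
      obtain ⟨c, rfl⟩ := hfs g
      refine Subtype.ext ?_
      rw [act_def]
      refine hfix y y.2 (fun s hs => ?_) c c.2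
      have h1 : f ⟨s, hS.1 hs⟩ ∈ (P : Subgroup (rho C Y hC).range) := by
        rw [hPc]
        exact Subgroup.mem_map_of_mem _ (Subgroup.mem_subgroupOf.2 hs)
      have h2 := congrArg Subtype.val (hy _ h1)
      rw [act_def] at h2
      exact h2)
  intro c hc
  have h1 : f ⟨c, hc⟩ ∈ (P : Subgroup (rho C Y hC).range) := by
    rw [htop]
    exact Subgroup.mem_top _
  rw [hPc] at h1
  obtain ⟨s, hs, hsc⟩ := h1
  have hsS : (s : G) ∈ S := Subgroup.mem_subgroupOf.1 hs
  have h3 : c * (s : G)⁻¹ ∈ C ⊓ centralizer (Y : Set G) := by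
    refine Subgroup.mem_inf.2 ⟨C.mul_mem hc (C.inv_mem s.2), mem_centralizer_iff.2 fun y hy => ?_⟩
    have h4 : f ⟨c, hc⟩ = f s := hsc.symm
    have h5 : ((f ⟨c, hc⟩ • (⟨(s : G)⁻¹ * y * (s : G), by
        have := (mem_normalizer_iff.1 (hC (inv_mem s.2)) y).1 hy
        simpa using this⟩ : Y) : Y) : G) = ((f s • (⟨(s : G)⁻¹ * y * (s : G), by
        have := (mem_normalizer_iff.1 (hC (inv_mem s.2)) y).1 hy
        simpa using this⟩ : Y) : Y) : G) := by rw [h4]
    rw [act_def, act_def] at h5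
    change c * ((s : G)⁻¹ * y * (s : G)) * c⁻¹ = (s : G) * ((s : G)⁻¹ * y * (s : G)) * (s : G)⁻¹ at h5
    have h6 : (s : G) * ((s : G)⁻¹ * y * (s : G)) * (s : G)⁻¹ = y := by group
    rw [h6] at h5
    calc y * (c * (s : G)⁻¹) = (c * ((s : G)⁻¹ * y * (s : G)) * c⁻¹) * (c * (s : G)⁻¹) := by rw [h5]
      _ = c * (s : G)⁻¹ * y := by group
  have e : c = (c * (s : G)⁻¹) * (s : G) := by group
  rw [e]
  exact mul_mem (mem_sup_left h3) (mem_sup_right hsS)

/-- **LEMMA LINES**: `Y = R₁ × R₂`, `S` acts on `R₁` and on `R₂` as an abelian group with at most one involution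
(field automorphisms), every `S`-fixed vector of `Y` is fixed by `C`: `C = C_C(Y) S`. -/
theorem le_sup_lines {C S Y R₁ R₂ : Subgroup G} (hS : Syl S C) (hY : IsPGroup 2 Y)
    (hYc : ∀ x ∈ Y, ∀ y ∈ Y, x * y = y * x) (hC : C ≤ normalizer (Y : Set G))
    (hs : R₁ ⊔ R₂ = Y) (hd : R₁ ⊓ R₂ = ⊥) (h1 : FLG S R₁) (h2 : FLG S R₂)
    (hfix : ∀ y ∈ Y, (∀ s ∈ S, s * y * s⁻¹ = y) → ∀ c ∈ C, c * y * c⁻¹ = y) :
    C ≤ (C ⊓ centralizer (Y : Set G)) ⊔ S := by
  refine le_sup_of hS hY hYc hC ?_ hfix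
  let _ : CommGroup Y := { (inferInstance : Group Y) with mul_comm := fun a b => Subtype.ext (hYc a a.2 b b.2) }
  intro P hP
  have hl1 : R₁ ≤ Y := hs ▸ le_sup_left
  have hl2 : R₂ ≤ Y := hs ▸ le_sup_right
  set f := (rho C Y hC).rangeRestrict with hf
  have act_def : ∀ (c : C) (y : Y), ((f c • y : Y) : G) = (c : G) * y * (c : G)⁻¹ := fun c y => rfl
  have key : ∀ R : Subgroup G, R ≤ Y → FLG S R → FL (Y := Y) (P : Subgroup (rho C Y hC).range) (R.subgroupOf Y) := by
    intro R hR h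
    have lift : ∀ g ∈ (P : Subgroup (rho C Y hC).range), ∃ s : C, (s : G) ∈ S ∧ f s = g := by
      intro g hg
      rw [← hP] at hg
      obtain ⟨s, hs, rfl⟩ := hg
      exact ⟨s, Subgroup.mem_subgroupOf.1 hs, rfl⟩
    refine ⟨?_, ?_, ?_⟩
    · intro g hg y hy
      obtain ⟨s, hsS, rfl⟩ := lift g hg
      rw [Subgroup.mem_subgroupOf] at hy ⊢
      rw [act_def]
      exact h.inv s hsS y hy
    · intro g hg k hk y hy
      obtain ⟨s, hsS, rfl⟩ := lift g hg
      obtain ⟨t, htS, rfl⟩ := lift k hk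
      rw [Subgroup.mem_subgroupOf] at hy
      refine Subtype.ext ?_
      rw [act_def, act_def, act_def, act_def]
      exact h.comm s hsS t htS y hy
    · intro g hg k hk g2 k2 mg mk y hy
      obtain ⟨s, hsS, rfl⟩ := lift g hg
      obtain ⟨t, htS, rfl⟩ := lift k hk
      refine Subtype.ext ?_
      rw [act_def, act_def]
      refine h.uniq s hsS t htS (fun z hz => ?_) (fun z hz => ?_) ?_ ?_ y (Subgroup.mem_subgroupOf.1 hy)
      · have := congrArg Subtype.val (g2 ⟨z, hR hz⟩ (Subgroup.mem_subgroupOf.2 hz))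
        rwa [act_def, act_def] at this
      · have := congrArg Subtype.val (k2 ⟨z, hR hz⟩ (Subgroup.mem_subgroupOf.2 hz))
        rwa [act_def, act_def] at this
      · obtain ⟨z, hz, hne⟩ := mg
        exact ⟨z, Subgroup.mem_subgroupOf.1 hz, fun e => hne (Subtype.ext (by rw [act_def]; exact e))⟩
      · obtain ⟨z, hz, hne⟩ := mk
        exact ⟨z, Subgroup.mem_subgroupOf.1 hz, fun e => hne (Subtype.ext (by rw [act_def]; exact e))⟩
  refine normalizer_le (Y := Y) (fun g hg => Subtype.ext (MulEquiv.ext fun y => hg y)) P (key R₁ hl1 h1)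
    (key R₂ hl2 h2) ?_ ?_
  · rw [← Subgroup.subgroupOf_sup hl1 hl2, hs, Subgroup.subgroupOf_self]
  · rw [eq_bot_iff]
    rintro y ⟨ha, hb⟩
    have : (y : G) ∈ R₁ ⊓ R₂ := ⟨Subgroup.mem_subgroupOf.1 ha, Subgroup.mem_subgroupOf.1 hb⟩
    rw [hd, Subgroup.mem_bot] at this
    exact Subgroup.mem_bot.2 (Subtype.ext this)

end grp

end Cfsg.Agent.Omega.NOThreeL.RShape.Lines
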