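import Cfsg.Agent.Omega.NOThreeL.Sigma.Front

/-!
# THEOREM T3 (#23416, helper144): box R, at least three factors of `Z`

`Fl Cm` : every `Ω₁(Z(T))`, `T` a Sylow 2-subgroup, has a set `Cm T` of subgroups ("components", at least three not
trivial ones, pairwise disjoint, conjugate under conjugation), every `P ∈ P(T)` in some `C_G(x)`, `x` in a component,
centralises all components but one.

* `U e = ⟨Ω₁(Z(T)) : T ≤ C_G(e)⟩`, `U_eq` : `= zl T (C_G(e))`;
* `D n a b` : there is a path of length `n` in the graph of the vertices (elements of components);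
* `le_o2_of` : (1);  `nov` : (ML) at a vertex;
* `third_centre` : (2), `kl` = the KL step as a hypothesis (`KLd`);
* `residue` : (3);  **`Fl.main`** : a non trivial 2-subgroup is normalised by all `C_G(x)`, `x` a vertex of `T`.
-/

set_option autoImplicit false

namespace Cfsg.Agent.Omega.NOThreeL.RShape.T3

open Subgroup Cfsg Cfsg.Agent.ZN Cfsg.Agent.ZN.ChoiceBase Cfsg.Agent.Omega.MinPar
open Cfsg.Agent.Omega.NOThreeL.ZCut (XZ XZ_le mem_XZ XZ_mono le_normalizer_XZ le_cent)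
open Cfsg.Agent.Omega.NoFF.Basic (comm_symm comm_mono)
open Cfsg.Agent.Omega.NoFF.ThmJFam (Ex)
open Cfsg.Agent.Omega.NOThreeL.Sigma (NOv no_z inf_cent_le ex_zl o2_le_cent rne relIndex_le_right relIndex_le_left)
open Cfsg.Agent.Omega.ML.Final (MLK)
open Cfsg.Agent.MinSimple.VModule (zc_le_zl le_normalizer_zl zl_le zc_le mem_zc le_normalizer_o2 o2_isPGroup o2_le
  le_o2 le_centralizer_zc)

universe u

variable {G : Type u} [Group G]

/-- `C_G(e)` -/
abbrev C (e : G) : Subgroup G := centralizer ({e} : Set G)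

theorem mem_C {e g : G} : g ∈ C e ↔ g * e = e * g := by
  rw [mem_centralizer_iff]
  exact ⟨fun h => (h e rfl).symm, fun h x hx => by rw [Set.mem_singleton_iff.1 hx]; exact h.symm⟩

theorem conj_eq {e g : G} (h : g ∈ C e) : g * e * g⁻¹ = e := by rw [mem_C.1 h, mul_inv_cancel_right]

theorem cj_C (g e : G) : cj g (C e) = C (g * e * g⁻¹) := by
  ext x
  rw [mem_cj, mem_C, mem_C]
  constructor
  · intro h
    calc x * (g * e * g⁻¹) = g * (g⁻¹ * x * g * e) * g⁻¹ := by group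
      _ = g * (e * (g⁻¹ * x * g)) * g⁻¹ := by rw [h]
      _ = g * e * g⁻¹ * x := by group
  · intro h
    calc g⁻¹ * x * g * e = g⁻¹ * (x * (g * e * g⁻¹)) * g := by group
      _ = g⁻¹ * (g * e * g⁻¹ * x) * g := by rw [h]
      _ = e * (g⁻¹ * x * g) := by group

/-- `U_e` -/
def U (e : G) : Subgroup G :=
  ⨆ T : {T : Sylow 2 G // (T : Subgroup G) ≤ C e}, zc ((T : Sylow 2 G) : Subgroup G)

theorem zc_le_U {T : Sylow 2 G} {e : G} (h : (T : Subgroup G) ≤ C e) : zc (T : Subgroup G) ≤ U e :=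
  le_iSup (fun T : {T : Sylow 2 G // (T : Subgroup G) ≤ C e} => zc ((T : Sylow 2 G) : Subgroup G)) ⟨T, h⟩

theorem coe_smul (g : G) (T : Sylow 2 G) : ((g • T : Sylow 2 G) : Subgroup G) = cj g (T : Subgroup G) := rfl

theorem zc_smul (g : G) (T : Sylow 2 G) :
    zc ((g • T : Sylow 2 G) : Subgroup G) = cj g (zc (T : Subgroup G)) := by
  rw [coe_smul]
  exact MinSimple.CosetFam.zc_conj g (T : Subgroup G)

theorem cj_U_le (g e : G) : cj g (U e) ≤ U (g * e * g⁻¹) := by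
  rw [U, cj, Subgroup.map_iSup]
  refine iSup_le fun T => ?_
  have h1 : cj g (zc ((T : Sylow 2 G) : Subgroup G)) ≤ U (g * e * g⁻¹) := by
    rw [← zc_smul]
    refine zc_le_U ?_
    rw [coe_smul, ← cj_C]
    exact cj_mono g T.2
  exact h1

theorem cj_U (g e : G) : cj g (U e) = U (g * e * g⁻¹) := by
  refine le_antisymm (cj_U_le g e) ?_
  have h := cj_mono g (cj_U_le g⁻¹ (g * e * g⁻¹))
  rw [cj_cj_inv] at h
  have e1 : g⁻¹ * (g * e * g⁻¹) * g⁻¹⁻¹ = e := by group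
  rwa [e1] at h

theorem C_le_normalizer (e : G) : C e ≤ normalizer (U e : Set G) := by
  intro g hg
  rw [mem_normalizer_iff_cj, cj_U, conj_eq hg]

section fin

variable [Finite G]

theorem exists_smul {T T' : Sylow 2 G} {K : Subgroup G} (h : (T : Subgroup G) ≤ K) (h' : (T' : Subgroup G) ≤ K) :
    ∃ k ∈ K, k • T = T' := by
  have : Fact (Nat.Prime 2) := ⟨Nat.prime_two⟩
  obtain ⟨k, hk⟩ := MulAction.exists_smul_eq K (T.subtype h) (T'.subtype h')
  refine ⟨k, k.2, ?_⟩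
  rw [Sylow.smul_subtype] at hk
  exact Sylow.subtype_injective hk

theorem U_eq {T : Sylow 2 G} {e : G} (h : (T : Subgroup G) ≤ C e) : U e = zl (T : Subgroup G) (C e) := by
  apply le_antisymm
  · refine iSup_le fun T' => ?_
    obtain ⟨k, hk, hkT⟩ := exists_smul h T'.2
    rw [← hkT, zc_smul, ← cj_eq_of_mem_normalizer (le_normalizer_zl (T : Subgroup G) (C e) hk)]
    exact cj_mono k (zc_le_zl _ _)
  · exact zl_le (zc_le_U h) (C_le_normalizer e)

end fin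

/-- the system of components -/
structure Fl (Cm : Sylow 2 G → Set (Subgroup G)) : Prop where
  le : ∀ (T : Sylow 2 G), ∀ X ∈ Cm T, X ≤ zc (T : Subgroup G)
  disj : ∀ (T : Sylow 2 G), ∀ X ∈ Cm T, ∀ Y ∈ Cm T, X ≠ Y → X ⊓ Y = ⊥
  cjm : ∀ (T : Sylow 2 G) (g : G), ∀ X ∈ Cm T, cj g X ∈ Cm (g • T)
  third : ∀ (T : Sylow 2 G), ∀ X ∈ Cm T, ∀ Y ∈ Cm T, ∃ W ∈ Cm T, W ≠ X ∧ W ≠ Y ∧ W ≠ ⊥
  par : ∀ (T : Sylow 2 G), ∀ X ∈ Cm T, ∀ x ∈ X, x ≠ 1 → ∀ P : Subgroup G, IsPar (T : Subgroup G) P → P ≤ C x →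
    ∃ Y ∈ Cm T, ∀ W ∈ Cm T, W ≠ Y → P ≤ centralizer (W : Set G)

/-- `a` and `b` lie in different components of `Z(T)` -/
structure Adj (Cm : Sylow 2 G → Set (Subgroup G)) (T : Sylow 2 G) (a b : G) : Prop where
  ex : ∃ X ∈ Cm T, ∃ Y ∈ Cm T, X ≠ Y ∧ a ∈ X ∧ b ∈ Y
  a1 : a ≠ 1
  b1 : b ≠ 1

/-- vertices -/
def Vx (Cm : Sylow 2 G → Set (Subgroup G)) (a : G) : Prop := ∃ T : Sylow 2 G, ∃ X ∈ Cm T, a ∈ X ∧ a ≠ 1

variable {Cm : Sylow 2 G → Set (Subgroup G)}

theorem Adj.vx {T : Sylow 2 G} {a b : G} (h : Adj Cm T a b) : Vx Cm a := by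
  obtain ⟨X, hX, Y, hY, hne, ha, hb⟩ := h.ex
  exact ⟨T, X, hX, ha, h.a1⟩

theorem Adj.symm {T : Sylow 2 G} {a b : G} (h : Adj Cm T a b) : Adj Cm T b a := by
  obtain ⟨X, hX, Y, hY, hne, ha, hb⟩ := h.ex
  exact ⟨⟨Y, hY, X, hX, hne.symm, hb, ha⟩, h.b1, h.a1⟩

theorem Adj.conj (F : Fl Cm) {T : Sylow 2 G} {a b : G} (h : Adj Cm T a b) (g : G) :
    Adj Cm (g • T) (g * a * g⁻¹) (g * b * g⁻¹) := by
  obtain ⟨X, hX, Y, hY, hne, ha, hb⟩ := h.ex
  refine ⟨⟨cj g X, F.cjm T g X hX, cj g Y, F.cjm T g Y hY, ?_, ⟨a, ha, rfl⟩, ⟨b, hb, rfl⟩⟩, ?_, ?_⟩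
  · intro h1
    apply hne
    rw [← cj_inv_cj g X, h1, cj_inv_cj]
  · intro h1; exact h.a1 (conj_eq_one_iff.1 h1)
  · intro h1; exact h.b1 (conj_eq_one_iff.1 h1)

/-- paths -/
def D (Cm : Sylow 2 G → Set (Subgroup G)) : ℕ → G → G → Prop
  | 0, a, b => a = b
  | n + 1, a, b => ∃ c, D Cm n a c ∧ ∃ T, Adj Cm T c b

theorem D.cons {a c : G} {T : Sylow 2 G} (h : Adj Cm T a c) : ∀ {n : ℕ} {b : G}, D Cm n c b → D Cm (n + 1) a b
  | 0, _, hb => ⟨a, rfl, T, by rw [← (show c = _ from hb)]; exact h⟩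
  | _ + 1, _, ⟨_, hd, hT⟩ => ⟨_, D.cons h hd, hT⟩

theorem D.symm : ∀ {n : ℕ} {a b : G}, D Cm n a b → D Cm n b a
  | 0, _, _, h => (show _ = _ from h).symm
  | _ + 1, _, _, ⟨_, hd, _, hT⟩ => D.cons hT.symm hd.symm

theorem D.conj (F : Fl Cm) (g : G) : ∀ {n : ℕ} {a b : G}, D Cm n a b → D Cm n (g * a * g⁻¹) (g * b * g⁻¹)
  | 0, _, _, h => by rw [show _ = _ from h]; exact rfl
  | _ + 1, _, _, ⟨_, hd, _, hT⟩ => ⟨_, D.conj F g hd, _, hT.conj F g⟩

theorem D.trans {n : ℕ} {a b : G} (h : D Cm n a b) : ∀ {m : ℕ} {c : G}, D Cm m b c → D Cm (n + m) a c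
  | 0, _, h' => by rw [← (show b = _ from h')]; exact h
  | _ + 1, _, ⟨_, hd, hT⟩ => ⟨_, D.trans h hd, hT⟩

/-- the KL step: `B` is exact on `U_b`, in `O₂` of the stabilisers of `b'` and `w` -/
structure KLd (Cm : Sylow 2 G → Set (Subgroup G)) (T : Sylow 2 G) (b b' w : G) (B : Subgroup G) : Prop where
  bb : Adj Cm T b b'
  bw : Adj Cm T b w
  wb : Adj Cm T w b'
  el : Ex B
  low' : B ≤ o2 (C b ⊓ C b')
  loww : B ≤ o2 (C b ⊓ C w)
  mv : ¬ B ≤ centralizer (U b : Set G)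
  exact : (centralizer (B : Set G)).relIndex (U b) = (centralizer (U b : Set G)).relIndex B

section main

variable [Finite G] (F : Fl Cm)

include F in
omit [Finite G] in
theorem Adj.mem_zc {T : Sylow 2 G} {a b : G} (h : Adj Cm T a b) : a ∈ zc (T : Subgroup G) ∧ b ∈ zc (T : Subgroup G) := by
  obtain ⟨X, hX, Y, hY, -, ha, hb⟩ := h.ex
  exact ⟨F.le T X hX ha, F.le T Y hY hb⟩

theorem isLoc_C {T : Sylow 2 G} {e : G} (h : e ∈ zc (T : Subgroup G)) (h1 : e ≠ 1) :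
    IsLoc (T : Subgroup G) (C e) :=
  isLoc_centralizer T (MinSimple.VModule.zc_sq _ e h) h1 (le_cent h)

variable (hc : IsCharacteristicTwoType G)
include hc

theorem U_le_zc {T : Sylow 2 G} {e : G} (h : e ∈ zc (T : Subgroup G)) (h1 : e ≠ 1) : U e ≤ zc (o2 (C e)) := by
  rw [U_eq (le_cent h)]
  exact (isLoc_C h h1).zl_le T hc

theorem U_le_o2 {T : Sylow 2 G} {e : G} (h : e ∈ zc (T : Subgroup G)) (h1 : e ≠ 1) : U e ≤ o2 (C e) :=
  (U_le_zc hc h h1).trans (zc_le _)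

theorem U_comm {T : Sylow 2 G} {e : G} (h : e ∈ zc (T : Subgroup G)) (h1 : e ≠ 1) :
    U e ≤ centralizer (U e : Set G) :=
  ((U_le_o2 hc h h1).trans (le_centralizer_zc _)).trans (centralizer_le (U_le_zc hc h h1))

theorem U_el {T : Sylow 2 G} {e : G} (h : e ∈ zc (T : Subgroup G)) (h1 : e ≠ 1) : Ex (U e) := by
  rw [U_eq (le_cent h)]
  exact ex_zl hc (isLoc_C h h1)

omit hc in
/-- `O₂(C(c)) ≤ O₂(C(c) ∩ C(c'))` -/
theorem o2_le_o2_inf {T : Sylow 2 G} {c c' : G} (h : c ∈ zc (T : Subgroup G)) (h1 : c ≠ 1)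
    (h' : c' ∈ zc (T : Subgroup G)) : o2 (C c) ≤ o2 (C c ⊓ C c') := by
  have h2 : o2 (C c) ≤ (T : Subgroup G) := (isLoc_C h h1).o2_le T
  exact le_o2 (le_inf (o2_le _) (h2.trans (le_cent h'))) (o2_isPGroup _) (inf_le_left.trans (le_normalizer_o2 _))

omit hc in
/-- `O₂(C(c) ∩ C(c')) ∩ C(U_c) ≤ O₂(C(c))` -/
theorem inf_le_o2 {T : Sylow 2 G} {c c' : G} (h : c ∈ zc (T : Subgroup G)) (h' : c' ∈ zc (T : Subgroup G)) :
    o2 (C c ⊓ C c') ⊓ centralizer (U c : Set G) ≤ o2 (C c) := by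
  refine le_trans (inf_le_inf_left _ (centralizer_le ?_)) inf_cent_le
  exact XZ_le fun p hp => (mem_normalizer_iff.1 (C_le_normalizer c hp) c').1 (zc_le_U (le_cent h) h')

include F in
/-- (1) -/
theorem le_o2_of {n : ℕ} (hcm : ∀ m ≤ n, ∀ x y, Vx Cm x → D Cm m x y → U x ≤ centralizer (U y : Set G)) {a : G}
    (ha : Vx Cm a) : ∀ m ≤ n, ∀ c, D Cm m a c → U a ≤ o2 (C c) := by
  intro m
  induction m with
  | zero =>
    rintro - c rfl
    obtain ⟨T₀, X, hX, haX, ha1⟩ := ha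
    exact U_le_o2 hc (F.le T₀ X hX haX) ha1
  | succ m ih =>
    rintro hm c ⟨c', hd, T, hT⟩
    obtain ⟨h1, h2⟩ := hT.mem_zc F
    have h3 := ih (by omega) c' hd
    have h4 := hcm _ hm a c ha ⟨c', hd, T, hT⟩
    refine (le_inf ((h3.trans (o2_le_o2_inf h1 hT.a1 h2)).trans ?_) h4).trans (inf_le_o2 h2 h1)
    rw [inf_comm]

variable (ml : MLK.{u, u}) (kg : ∀ (T : Sylow 2 G) (R : Subgroup G), IsLoc (T : Subgroup G) R → IsKGroup R)
include ml kg

/-- (ML) at the vertex `b`: no over-offender in `O₂(C(b) ∩ C(b'))` -/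
theorem nov {T : Sylow 2 G} {b b' : G} (h : b ∈ zc (T : Subgroup G)) (h1 : b ≠ 1) (h' : b' ∈ zc (T : Subgroup G))
    {A : Subgroup G} (hA : A ≤ o2 (C b ⊓ C b')) (el : Ex A) : NOv A (U b) := by
  have hL := isLoc_C h h1
  have h2 := no_z hc ml (kg T) hL h' hA el
  have h3 : XZ b' (C b) ≤ U b :=
    XZ_le fun p hp => (mem_normalizer_iff.1 (C_le_normalizer b hp) b').1 (zc_le_U (le_cent h) h')
  have h4 : A ⊓ centralizer (XZ b' (C b) : Set G) ≤ centralizer (U b : Set G) := by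
    rw [U_eq (le_cent h)]
    exact ((inf_le_inf_right _ hA).trans inf_cent_le).trans (o2_le_cent hc hL)
  have h5 : (centralizer (U b : Set G)).relIndex A ≤ (centralizer (XZ b' (C b) : Set G)).relIndex A := by
    rw [← inf_relIndex_left A (centralizer (XZ b' (C b) : Set G))]
    exact relIndex_le_left h4
  exact h5.trans (h2.trans (relIndex_le_right h3))

include F in
/-- **(2) THE THIRD CENTRE** -/
theorem third_centre (kl : ∀ T b b' w B, ¬ KLd Cm T b b' w B) {T : Sylow 2 G} {a b b' w : G}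
    (hbb : Adj Cm T b b') (hbw : Adj Cm T b w) (hwb : Adj Cm T w b') (hA : U a ≤ o2 (C b ⊓ C b')) (el : Ex (U a))
    (hex : (centralizer (U b : Set G)).relIndex (U a) = (centralizer (U a : Set G)).relIndex (U b)) :
    U a ⊓ centralizer (XZ b' (C b ⊓ C w) : Set G) ≤ centralizer (U b : Set G) := by
  by_contra hmv
  obtain ⟨hb, hb'⟩ := hbb.mem_zc F
  have hw := (hbw.mem_zc F).2
  set N := XZ b' (C b ⊓ C w) with hN
  set A := U a with hAdef
  set V := U b with hV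
  set B := A ⊓ centralizer (N : Set G) with hB
  have hRw : IsLoc (T : Subgroup G) (C b ⊓ C w) :=
    (isLoc_C hb hbb.a1).of_le T (le_inf (le_cent hb) (le_cent hw)) inf_le_left
  have hRb : IsLoc (T : Subgroup G) (C b ⊓ C b') :=
    (isLoc_C hb hbb.a1).of_le T (le_inf (le_cent hb) (le_cent hb')) inf_le_left
  have hO : o2 (C b ⊓ C b') ≤ o2 (C b ⊓ C w ⊓ C b') := by
    refine le_o2 (le_inf (le_inf ((o2_le _).trans inf_le_left) ((hRb.o2_le T).trans (le_cent hw)))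
      ((o2_le _).trans inf_le_right)) (o2_isPGroup _) ?_
    exact (le_inf (inf_le_left.trans inf_le_left) inf_le_right).trans (le_normalizer_o2 _)
  have hAw : A ≤ o2 (C b ⊓ C w ⊓ C b') := hA.trans hO
  have h2 : NOv A N := no_z hc ml (kg T) hRw hb' hAw el
  have hBw : B ≤ o2 (C b ⊓ C w) := (inf_le_inf_right _ hAw).trans inf_cent_le
  have hBb : B ≤ o2 (C b ⊓ C b') := inf_le_left.trans hA
  have hNV : N ≤ V := XZ_le fun p hp => (mem_normalizer_iff.1 (C_le_normalizer b hp.1) b').1 (zc_le_U (le_cent hb) hb')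
  have elB : Ex B := el.mono inf_le_left
  have h5 : NOv B V := nov hc ml kg hb hbb.a1 hb' hBb elB
  refine kl T b b' w B ⟨hbb, hbw, hwb, elB, hBb, hBw, hmv, le_antisymm ?_ h5⟩
  -- the count
  have hVB : A ⊓ centralizer (V : Set G) ≤ B := inf_le_inf_left _ (centralizer_le hNV)
  have e1 : (centralizer (V : Set G)).relIndex A =
      (centralizer (V : Set G)).relIndex B * (centralizer (N : Set G)).relIndex A := by
    have h := relIndex_mul_relIndex (A ⊓ centralizer (V : Set G)) B A hVB inf_le_left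
    rw [inf_relIndex_left, hB, inf_relIndex_left, ← hB] at h
    rw [← h]
    congr 1
    rw [← inf_relIndex_right (A ⊓ centralizer (V : Set G)) B, ← inf_relIndex_right (centralizer (V : Set G)) B]
    congr 1
    rw [inf_comm A, inf_assoc, inf_eq_right.2 (inf_le_left : B ≤ A)]
  set x := (centralizer (A : Set G)).relIndex (V ⊓ centralizer (B : Set G)) with hx
  have e2 : (centralizer (A : Set G)).relIndex V = x * (centralizer (B : Set G)).relIndex V := by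
    have h := relIndex_mul_relIndex (V ⊓ centralizer (A : Set G)) (V ⊓ centralizer (B : Set G)) V
      (inf_le_inf_left _ (centralizer_le inf_le_left)) inf_le_left
    rw [inf_relIndex_left, inf_relIndex_left] at h
    rw [← h, hx]
    congr 1
    rw [← inf_relIndex_right (V ⊓ centralizer (A : Set G)) (V ⊓ centralizer (B : Set G)),
      ← inf_relIndex_right (centralizer (A : Set G)) (V ⊓ centralizer (B : Set G))]
    congr 1
    rw [inf_comm V (centralizer (A : Set G)), inf_assoc, ← inf_assoc V, inf_idem]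
  have e3 : (centralizer (A : Set G)).relIndex N ≤ x :=
    relIndex_le_right (le_inf hNV (comm_symm inf_le_right))
  have hx0 : 0 < x := Nat.pos_of_ne_zero (rne _ _)
  refine Nat.le_of_mul_le_mul_left ?_ hx0
  calc x * (centralizer (B : Set G)).relIndex V = (centralizer (A : Set G)).relIndex V := e2.symm
    _ = (centralizer (V : Set G)).relIndex A := hex.symm
    _ = (centralizer (V : Set G)).relIndex B * (centralizer (N : Set G)).relIndex A := e1
    _ ≤ (centralizer (V : Set G)).relIndex B * x := Nat.mul_le_mul_left _ (h2.trans e3)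
    _ = x * (centralizer (V : Set G)).relIndex B := Nat.mul_comm _ _

end main

section residue

variable [Finite G] (F : Fl Cm)
include F

omit [Finite G] in
theorem Adj.trans_third {T : Sylow 2 G} {b c : G} (h : Adj Cm T b c) : ∃ w, Adj Cm T b w ∧ Adj Cm T c w := by
  obtain ⟨X, hX, Y, hY, hne, hb, hcY⟩ := h.ex
  obtain ⟨W, hW, hWX, hWY, hW1⟩ := F.third T X hX Y hY
  obtain ⟨w, hw, hw1⟩ := (Subgroup.bot_or_exists_ne_one W).resolve_left hW1
  exact ⟨w, ⟨⟨X, hX, W, hW, hWX.symm, hb, hw⟩, h.a1, hw1⟩, ⟨⟨Y, hY, W, hW, hWY.symm, hcY, hw⟩, h.b1, hw1⟩⟩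

/-- (3): the residue of `b` is connected -/
theorem residue {b : G} {Bad : G → Prop}
    (hstep : ∀ T c w, Adj Cm T b c → Adj Cm T b w → Adj Cm T c w → Bad c → Bad w) {T₀ : Sylow 2 G} {c₀ : G}
    (h0 : Adj Cm T₀ b c₀) (hB : Bad c₀) : ∀ T c, Adj Cm T b c → Bad c := by
  -- one flag
  have L1 : ∀ T c, Adj Cm T b c → Bad c → ∀ d, Adj Cm T b d → Bad d := by
    intro T c hc hbad d hd
    obtain ⟨X, hX, Y, hY, hne, hb, hcY⟩ := hc.ex
    obtain ⟨X', hX', Y', hY', hne', hb', hdY⟩ := hd.ex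
    have hXX : X = X' := by
      by_contra h
      have h1 := F.disj T X hX X' hX' h
      exact hc.a1 (mem_bot.1 (h1 ▸ ⟨hb, hb'⟩ : b ∈ (⊥ : Subgroup G)))
    subst hXX
    by_cases hYY : Y = Y'
    · subst hYY
      obtain ⟨w, hw1, hw2⟩ := hc.trans_third F
      have h1 := hstep T c w hc hw1 hw2 hbad
      obtain ⟨Y₁, hY₁, W, hW, hne1, hc1, hw⟩ := hw2.ex
      have h2 : Y = Y₁ := by
        by_contra h
        have h1 := F.disj T Y hY Y₁ hY₁ h
        exact hc.b1 (mem_bot.1 (h1 ▸ ⟨hcY, hc1⟩ : c ∈ (⊥ : Subgroup G)))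
      subst h2
      exact hstep T w d hw1 hd ⟨⟨W, hW, Y, hY, hne1.symm, hw, hdY⟩, hw1.b1, hd.b1⟩ h1
    · exact hstep T c d hc hd ⟨⟨Y, hY, Y', hY', hYY, hcY, hdY⟩, hc.b1, hd.b1⟩ hbad
  have hb0 : b ∈ zc (T₀ : Subgroup G) := (h0.mem_zc F).1
  obtain ⟨X₀, hX₀, -, -, -, hbX, -⟩ := h0.ex
  have hb1 : b ≠ 1 := h0.a1
  let AB : Sylow 2 G → Prop := fun T => ∀ c, Adj Cm T b c → Bad c
  -- one minimal parabolic
  have L2 : ∀ (T : Sylow 2 G) (X : Subgroup G), X ∈ Cm T → b ∈ X → ∀ P : Subgroup G, IsPar (T : Subgroup G) P →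
      P ≤ C b → ∀ h ∈ P, AB T → AB (h • T) := by
    intro T X hX hb P hP hPC h hh hall
    obtain ⟨Y, hY, hPY⟩ := F.par T X hX b hb hb1 P hP hPC
    obtain ⟨W, hW, hWX, hWY, hW1⟩ := F.third T X hX Y hY
    obtain ⟨w, hw, hw1⟩ := (Subgroup.bot_or_exists_ne_one W).resolve_left hW1
    have h1 : Adj Cm T b w := ⟨⟨X, hX, W, hW, hWX.symm, hb, hw⟩, hb1, hw1⟩
    have h2 := h1.conj F h
    have h3 : h * w * h⁻¹ = w := by
      have h4 := mem_centralizer_iff.1 (hPY W hW hWY hh) w hw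
      rw [← h4, mul_inv_cancel_right]
    rw [conj_eq (hPC hh), h3] at h2
    exact L1 _ w h2 (hall w h1)
  -- the subgroup of the elements of `C(b)` which respect `AB`
  let Y : Subgroup G :=
    { carrier := {h | h ∈ C b ∧ ∀ k ∈ C b, AB (k • T₀) ↔ AB ((k * h) • T₀)}
      one_mem' := ⟨one_mem _, fun k _ => by rw [mul_one]⟩
      mul_mem' := fun {x y} hx hy => ⟨mul_mem hx.1 hy.1, fun k hk => by
        rw [hx.2 k hk, hy.2 (k * x) (mul_mem hk hx.1), mul_assoc]⟩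
      inv_mem' := fun {x} hx => ⟨inv_mem hx.1, fun k hk => by
        have h1 := hx.2 (k * x⁻¹) (mul_mem hk (inv_mem hx.1))
        rw [inv_mul_cancel_right] at h1
        exact h1.symm⟩ }
  have hYC : C b ≤ Y := by
    refine (isLoc_C hb0 hb1).le_of_forall T₀ ?_ ?_
    · intro h hh
      refine ⟨hh.1, fun k _ => ?_⟩
      have h1 : h • T₀ = T₀ := Sylow.smul_eq_iff_mem_normalizer.2 hh.2
      rw [mul_smul, h1]
    · intro P hP hPC
      have key : ∀ k ∈ C b, ∀ h ∈ P, AB (k • T₀) → AB ((k * h) • T₀) := by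
        intro k hk h hh hall
        have h1 := L2 (k • T₀) (cj k X₀) (F.cjm T₀ k X₀ hX₀) ⟨b, hbX, conj_eq hk⟩ (cj k P)
          (IsPar.map (MulAut.conj k) hP) ?_ (k * h * k⁻¹) ⟨h, hh, rfl⟩ hall
        · rwa [smul_smul, inv_mul_cancel_right] at h1
        · have h2 := cj_mono k hPC
          rwa [cj_C, conj_eq hk] at h2
      intro h hh
      refine ⟨hPC hh, fun k hk => ⟨key k hk h hh, fun h1 => ?_⟩⟩
      have h2 := key (k * h) (mul_mem hk (hPC hh)) h⁻¹ (inv_mem hh) h1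
      rwa [mul_inv_cancel_right] at h2
  intro T c hT
  have hbT := (hT.mem_zc F).1
  obtain ⟨h, hh, rfl⟩ := exists_smul (le_cent hb0) (le_cent hbT)
  have h1 := ((hYC hh).2 1 (one_mem _)).1
  rw [one_smul, one_mul] at h1
  exact h1 (L1 T₀ c₀ h0 hB) c hT

end residue

section final

variable [Finite G] (F : Fl Cm) (hc : IsCharacteristicTwoType G) (ml : MLK.{u, u})
  (kg : ∀ (T : Sylow 2 G) (R : Subgroup G), IsLoc (T : Subgroup G) R → IsKGroup R)
  (kl : ∀ T b b' w B, ¬ KLd Cm T b b' w B)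
include F hc ml kg kl

/-- one critical step -/
theorem step {m : ℕ} (hcm : ∀ m' ≤ m, ∀ x y, Vx Cm x → D Cm m' x y → U x ≤ centralizer (U y : Set G)) {a b' : G}
    (ha : Vx Cm a) (hd : D Cm m a b') {T : Sylow 2 G} {c w : G} (hc' : Adj Cm T b' c) (hw : Adj Cm T b' w)
    (hcw : Adj Cm T c w) : U a ⊓ centralizer (XZ b' (C c ⊓ C w) : Set G) ≤ centralizer (U c : Set G) := by
  obtain ⟨h1, h2⟩ := hc'.mem_zc F
  have hA : U a ≤ o2 (C c ⊓ C b') := by
    refine (le_o2_of F hc hcm ha m le_rfl b' hd).trans ((o2_le_o2_inf h1 hc'.a1 h2).trans ?_)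
    rw [inf_comm]
  obtain ⟨Ta, Xa, hXa, haX, ha1⟩ := ha
  have haz := F.le Ta Xa hXa haX
  have el : Ex (U a) := U_el hc haz ha1
  refine third_centre F hc ml kg kl hc'.symm hcw hw.symm hA el (le_antisymm ?_ ?_)
  · exact nov hc ml kg h2 hc'.b1 h1 hA el
  · -- from the other side
    have h3 : D Cm (m + 1) c a := D.symm (⟨b', hd, T, hc'⟩ : D Cm (m + 1) a c)
    obtain ⟨a', hd', Ta', hTa'⟩ := h3
    obtain ⟨h4, h5⟩ := hTa'.mem_zc F
    have h6 := le_o2_of F hc hcm hc'.symm.vx m le_rfl a' hd'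
    have h7 : U c ≤ o2 (C a ⊓ C a') := by
      refine h6.trans ((o2_le_o2_inf h4 hTa'.a1 h5).trans ?_)
      rw [inf_comm]
    exact nov hc ml kg h5 hTa'.b1 h4 h7 (U_el hc h2 hc'.b1)

/-- (3) -/
theorem spread {m : ℕ} (hcm : ∀ m' ≤ m, ∀ x y, Vx Cm x → D Cm m' x y → U x ≤ centralizer (U y : Set G)) {a b' : G}
    (ha : Vx Cm a) (hd : D Cm m a b') {T : Sylow 2 G} {c : G} (hc' : Adj Cm T b' c)
    (hbad : ¬ U a ≤ centralizer (U c : Set G)) :
    ∀ T' d, Adj Cm T' b' d → ¬ U a ≤ centralizer (U d : Set G) := by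
  refine residue F (Bad := fun d => ¬ U a ≤ centralizer (U d : Set G)) ?_ hc' hbad
  intro T₁ c₁ w h1 h2 h3 h4 h5
  apply h4
  have h6 := step F hc ml kg kl hcm ha hd h1 h2 h3
  refine (le_inf le_rfl ?_).trans h6
  refine h5.trans (centralizer_le ?_)
  exact XZ_le fun p hp => (mem_normalizer_iff.1 (C_le_normalizer w hp.2) b').1
    (zc_le_U (le_cent (h2.mem_zc F).2) (h2.mem_zc F).1)

/-- all `U`'s of one connected component commute -/
theorem commute : ∀ (n : ℕ) (x y : G), Vx Cm x → D Cm n x y → U x ≤ centralizer (U y : Set G) := by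
  intro n
  induction n using Nat.strong_induction_on with
  | _ n ih =>
    intro a b ha hd
    rcases n with _ | m
    · obtain ⟨Ta, Xa, hXa, haX, ha1⟩ := ha
      rw [← (show a = b from hd)]
      exact U_comm hc (F.le Ta Xa hXa haX) ha1
    obtain ⟨b', hd', T, hT⟩ := hd
    have hcm : ∀ m' ≤ m, ∀ x y, Vx Cm x → D Cm m' x y → U x ≤ centralizer (U y : Set G) :=
      fun m' hm' x y hx hxy => ih m' (by omega) x y hx hxy
    by_contra hbad
    rcases m with _ | m'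
    · -- (4)
      have e := (show a = b' from hd')
      subst e
      have hcm0 : ∀ m' ≤ 0, ∀ x y, Vx Cm x → D Cm m' x y → U x ≤ centralizer (U y : Set G) := hcm
      obtain ⟨w, h1, h2⟩ := hT.trans_third F
      obtain ⟨haz, hbz⟩ := hT.mem_zc F
      have hwz := (h1.mem_zc F).2
      have s1 := step F hc ml kg kl hcm0 hT.symm.vx (rfl : D Cm 0 b b) hT.symm h2 h1
      have s2 := step F hc ml kg kl hcm0 ha (rfl : D Cm 0 a a) hT h1 h2
      have hE2 : zl (T : Subgroup G) (C b ⊓ C w) ≤ U b :=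
        zl_le (zc_le_U (le_cent hbz)) (inf_le_left.trans (C_le_normalizer b))
      have hE3 : zl (T : Subgroup G) (C b ⊓ C w) ≤ U w :=
        zl_le (zc_le_U (le_cent hwz)) (inf_le_right.trans (C_le_normalizer w))
      have hN : XZ b (C a ⊓ C w) ≤ U w :=
        XZ_le fun p hp => (mem_normalizer_iff.1 (C_le_normalizer w hp.2) b).1 (zc_le_U (le_cent hwz) hbz)
      have hN' : XZ a (C b ⊓ C w) ≤ zl (T : Subgroup G) (C b ⊓ C w) :=
        XZ_le fun p hp => (mem_normalizer_iff.1 (le_normalizer_zl _ _ hp) a).1 (zc_le_zl _ _ haz)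
      have hE : zl (T : Subgroup G) (C b ⊓ C w) ≤ centralizer (U a : Set G) :=
        (le_inf hE2 ((hE3.trans (U_comm hc hwz h1.b1)).trans (centralizer_le hN))).trans s1
      exact hbad ((le_inf le_rfl ((comm_symm hE).trans (centralizer_le hN'))).trans s2)
    · -- (3)
      have h1 := spread F hc ml kg kl hcm ha hd' hT hbad
      obtain ⟨c, hd'', T', hT'⟩ := hd'
      exact h1 T' c hT'.symm (hcm m' (by omega) a c ha hd'')

/-- **THEOREM T3**: a 2-subgroup is normalised by all `C_G(x)`, `x` a vertex of `T`. -/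
theorem main {T : Sylow 2 G} {X₀ : Subgroup G} (hX₀ : X₀ ∈ Cm T) (hX₁ : X₀ ≠ ⊥) :
    ∃ W : Subgroup G, IsPGroup 2 W ∧ W ≠ ⊥ ∧ ∀ X ∈ Cm T, ∀ x ∈ X, x ≠ 1 → C x ≤ normalizer (W : Set G) := by
  obtain ⟨x₀, hx₀, hx₁⟩ := (Subgroup.bot_or_exists_ne_one X₀).resolve_left hX₁
  have hcom := commute F hc ml kg kl
  set W : Subgroup G := ⨆ y : {y : G // ∃ n, D Cm n x₀ y}, U y.1 with hW
  have hle : ∀ n y, D Cm n x₀ y → U y ≤ W := fun n y h => le_iSup (fun y : {y : G // ∃ n, D Cm n x₀ y} => U y.1) ⟨y, n, h⟩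
  have hvx : Vx Cm x₀ := ⟨T, X₀, hX₀, hx₀, hx₁⟩
  have hV : ∀ n y, D Cm n x₀ y → Vx Cm y := by
    intro n y h
    rcases n with _ | n
    · rw [← (show x₀ = y from h)]; exact hvx
    · obtain ⟨c, -, T', hT'⟩ := h
      exact hT'.symm.vx
  have hWo : W ≤ o2 (C x₀) := by
    refine iSup_le fun ⟨y, n, hy⟩ => ?_
    exact le_o2_of F hc (n := n) (fun m _ x y hx hxy => hcom m x y hx hxy) (hV n y hy) n le_rfl x₀ hy.symm
  refine ⟨W, (o2_isPGroup _).to_le hWo, ?_, ?_⟩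
  · intro h1
    have h2 := hle 0 x₀ rfl
    rw [h1, le_bot_iff] at h2
    have h3 : x₀ ∈ U x₀ := zc_le_U (le_cent (F.le T X₀ hX₀ hx₀)) (F.le T X₀ hX₀ hx₀)
    rw [h2] at h3
    exact hx₁ (mem_bot.1 h3)
  · intro X hX x hx hx1
    -- a path from `x₀` to `x`
    have hpath : ∃ n, D Cm n x₀ x := by
      by_cases hXX : X₀ = X
      · subst hXX
        obtain ⟨Y, hY, hYX, -, hY1⟩ := F.third T X₀ hX₀ X₀ hX₀
        obtain ⟨y, hy, hy1⟩ := (Subgroup.bot_or_exists_ne_one Y).resolve_left hY1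
        exact ⟨2, y, ⟨x₀, rfl, T, ⟨⟨X₀, hX₀, Y, hY, hYX.symm, hx₀, hy⟩, hx₁, hy1⟩⟩, T,
          ⟨⟨Y, hY, X₀, hX₀, hYX, hy, hx⟩, hy1, hx1⟩⟩
      · exact ⟨1, x₀, rfl, T, ⟨⟨X₀, hX₀, X, hX, hXX, hx₀, hx⟩, hx₁, hx1⟩⟩
    obtain ⟨n, hn⟩ := hpath
    have key : ∀ g ∈ C x, cj g W ≤ W := by
      intro g hg
      rw [cj, hW, Subgroup.map_iSup]
      refine iSup_le fun ⟨y, m, hy⟩ => ?_
      have h1 : cj g (U y) ≤ W := by
        rw [cj_U]
        have h2 := (hn.symm.trans hy).conj F g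
        rw [conj_eq hg] at h2
        exact hle _ _ (hn.trans h2)
      exact h1
    intro g hg
    rw [mem_normalizer_iff_cj]
    refine le_antisymm (key g hg) ?_
    have h2 := cj_mono g (key g⁻¹ (inv_mem hg))
    rwa [cj_cj_inv] at h2

end final

end Cfsg.Agent.Omega.NOThreeL.RShape.T3
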