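import Cfsg.Agent.Omega.NOThreeL.Sigma.Front
import Cfsg.Agent.MinSimple.CosetFam
import Cfsg.Agent.Omega.NO3S.PointTI

/-!
# THEOREM T3 (#23416, helper144), the geometric part

`S` a Sylow 2-subgroup of `G` (characteristic 2 type), `Zi : ι → Subgroup G` subgroups of `Ω₁(Z(S))` (frame `T3`): at
least three, pairwise meeting trivially, permuted by `N(S)`; every member of `P(S)` centralising a vector of some
`Zi i`# is in `C_G(Z)` or has a type `j`; `⟨C_G(x) : x ∈ Zi i#⟩` is nonlocal.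

`UU S y` = the join of the `Ω₁(Z(T))`, `T` Sylow, `y ∈ Ω₁(Z(T))` (`= ⟨Z^(C_G(x))⟩` for `y = x ∈ Ω₁(Z(S))`).

* `exists_crit` : some `[UU a, UU b] ≠ 1` in the component of `S`;
* `exact_of`, `third` : (1), (2);
* `all_nb` : the residue argument (3);
* `false_of` : (3), (4): `KLB → False`.
-/

set_option autoImplicit false

namespace Cfsg.Agent.Omega.NOThreeL.RShape.TGeo

open Subgroup Cfsg Cfsg.Agent.ZN Cfsg.Agent.ZN.ChoiceBase Cfsg.Agent.Omega.MinPar Cfsg.Agent.Omega.Frame Cfsg.Agent.Omega.FrameNOFF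
open Cfsg.Agent.Omega.Node.NO3L
open Cfsg.Agent.Omega.NOThreeL.ZCut (XZ XZ_le mem_XZ conj_mem_XZ le_normalizer_XZ)
open Cfsg.Agent.Omega.NOThreeL.Sigma (NOv no_z inf_cent_le)
open Cfsg.Agent.Omega.NoFF.Basic (comm_symm comm_mono)
open Cfsg.Agent.Omega.NoFF.ThmJFam (Ex)
open Cfsg.Agent.Omega.ML.Final (MLK)
open Cfsg.Agent.MinSimple.VModule (zc_le_zl le_normalizer_zl zl_le zc_le le_normalizer_o2 o2_isPGroup o2_le
  le_o2 le_centralizer_zc normalizer_le_normalizer_zc)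

universe u

variable {G : Type u} [Group G]

/-! ### Notation -/

/-- `C_G(y)` -/
def CC (y : G) : Subgroup G := centralizer ({y} : Set G)

theorem mem_CC {x y : G} : x ∈ CC y ↔ x * y * x⁻¹ = y := by
  rw [CC, mem_centralizer_singleton_iff, mul_inv_eq_iff_eq_mul]

theorem cj_CC (g y : G) : cj g (CC y) = CC (g * y * g⁻¹) := by
  ext x
  rw [mem_cj, mem_CC, mem_CC]
  constructor
  · intro h
    have e : x * (g * y * g⁻¹) * x⁻¹ = g * (g⁻¹ * x * g * y * (g⁻¹ * x * g)⁻¹) * g⁻¹ := by group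
    rw [e, h]
  · intro h
    have e : g⁻¹ * x * g * y * (g⁻¹ * x * g)⁻¹ = g⁻¹ * (x * (g * y * g⁻¹) * x⁻¹) * g := by group
    rw [e, h]; group

theorem CC_le_cent {y : G} {A : Subgroup G} (h : ∀ a ∈ A, a * y * a⁻¹ = y) : A ≤ CC y :=
  fun a ha => mem_CC.2 (h a ha)

theorem cent_le_CC {y : G} {W : Subgroup G} (h : y ∈ W) : centralizer (W : Set G) ≤ CC y :=
  centralizer_le (Set.singleton_subset_iff.2 h)

theorem mem_cj_self {g x : G} {A : Subgroup G} (hx : x ∈ A) : g * x * g⁻¹ ∈ cj g A := by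
  rw [mem_cj]
  have e : g⁻¹ * (g * x * g⁻¹) * g = x := by group
  rwa [e]

theorem mem_cj_iff {g x : G} {A : Subgroup G} : g * x * g⁻¹ ∈ cj g A ↔ x ∈ A := by
  rw [mem_cj]
  have e : g⁻¹ * (g * x * g⁻¹) * g = x := by group
  rw [e]

theorem cj_o2 (g : G) (L : Subgroup G) : o2 (cj g L) = cj g (o2 L) := o2_map_equiv (MulAut.conj g) L

theorem cj_zc (g : G) (L : Subgroup G) : zc (cj g L) = cj g (zc L) := zc_map_equiv (MulAut.conj g) L

theorem cj_zl (g : G) (B L : Subgroup G) : zl (cj g B) (cj g L) = cj g (zl B L) :=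
  MinSimple.CosetFam.zl_conj g B L

theorem cj_cent_iff {g : G} {A B : Subgroup G} :
    cj g A ≤ centralizer ((cj g B : Subgroup G) : Set G) ↔ A ≤ centralizer (B : Set G) := by
  rw [← cj_centralizer]
  constructor
  · intro h
    have h1 := cj_mono g⁻¹ h
    rwa [cj_inv_cj, cj_inv_cj] at h1
  · exact cj_mono g

theorem relIndex_cj (g : G) (A B : Subgroup G) : (cj g A).relIndex (cj g B) = A.relIndex B :=
  relIndex_map_map_of_injective A B (MulAut.conj g).injective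

theorem cj_XZ_le (g z : G) (R : Subgroup G) : XZ (g * z * g⁻¹) (cj g R) ≤ cj g (XZ z R) := by
  refine XZ_le fun p hp => ?_
  rw [mem_cj] at hp ⊢
  have e : g⁻¹ * (p * (g * z * g⁻¹) * p⁻¹) * g = (g⁻¹ * p * g) * z * (g⁻¹ * p * g)⁻¹ := by group
  rw [e]
  exact conj_mem_XZ hp

theorem cj_XZ (g z : G) (R : Subgroup G) : cj g (XZ z R) = XZ (g * z * g⁻¹) (cj g R) := by
  refine le_antisymm ?_ (cj_XZ_le g z R)
  have h1 := cj_mono g (cj_XZ_le g⁻¹ (g * z * g⁻¹) (cj g R))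
  rw [cj_cj_inv, cj_inv_cj] at h1
  have e : g⁻¹ * (g * z * g⁻¹) * g⁻¹⁻¹ = z := by group
  rwa [e] at h1

/-- the join of all `Ω₁(Z(T))`, `T` conjugate to `S`, `y ∈ Ω₁(Z(T))` -/
def UU (S : Subgroup G) (y : G) : Subgroup G := ⨆ g : {g : G // y ∈ cj g (zc S)}, cj (g : G) (zc S)

theorem le_UU {S : Subgroup G} {y g : G} (h : y ∈ cj g (zc S)) : cj g (zc S) ≤ UU S y :=
  le_iSup (fun g : {g : G // y ∈ cj g (zc S)} => cj (g : G) (zc S)) ⟨g, h⟩

theorem UU_le {S : Subgroup G} {y : G} {K : Subgroup G} (h : ∀ g, y ∈ cj g (zc S) → cj g (zc S) ≤ K) :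
    UU S y ≤ K := iSup_le fun g => h g.1 g.2

theorem cj_UU_le (S : Subgroup G) (h y : G) : cj h (UU S y) ≤ UU S (h * y * h⁻¹) := by
  rw [cj_le_iff]
  refine UU_le fun g hg => ?_
  rw [← cj_le_iff, cj_cj]
  apply le_UU
  rw [← cj_cj]
  exact mem_cj_self hg

theorem cj_UU (S : Subgroup G) (h y : G) : cj h (UU S y) = UU S (h * y * h⁻¹) := by
  refine le_antisymm (cj_UU_le S h y) ?_
  have h1 := cj_mono h (cj_UU_le S h⁻¹ (h * y * h⁻¹))
  rw [cj_cj_inv] at h1
  have e : h⁻¹ * (h * y * h⁻¹) * h⁻¹⁻¹ = y := by group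
  rwa [e] at h1

theorem CC_le_norm (S : Subgroup G) (y : G) : CC y ≤ normalizer (UU S y : Set G) := by
  intro c hc
  rw [mem_normalizer_iff_cj, cj_UU, mem_CC.1 hc]

variable [Finite G]

section basic

variable {S : Sylow 2 G}

theorem le_CC {y : G} (hy : y ∈ zc (S : Subgroup G)) : (S : Subgroup G) ≤ CC y := ZCut.le_cent hy

theorem isLoc_CC {y : G} (hy : y ∈ zc (S : Subgroup G)) (hy1 : y ≠ 1) : IsLoc (S : Subgroup G) (CC y) :=
  isLoc_centralizer S (MinSimple.VModule.zc_sq _ y hy) hy1 (le_CC hy)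

/-- `UU S y = ⟨Z^(C_G(y))⟩` -/
theorem UU_eq {y : G} (hy : y ∈ zc (S : Subgroup G)) :
    UU (S : Subgroup G) y = zl (S : Subgroup G) (CC y) := by
  refine le_antisymm (UU_le fun g hg => ?_) (zl_le ?_ (CC_le_norm _ _))
  · -- `S`, `S^g` Sylow in `C_G(y)`
    have h1 : ((g • S : Sylow 2 G) : Subgroup G) ≤ CC y := by
      refine le_CC ?_
      have : zc ((g • S : Sylow 2 G) : Subgroup G) = cj g (zc (S : Subgroup G)) := cj_zc g S
      rw [this]
      exact hg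
    obtain ⟨c, hc, he⟩ := NO3S.PT.exists_conj (le_CC hy) h1
    have he' : cj c (S : Subgroup G) = cj g (S : Subgroup G) := he
    have h2 : cj g (zc (S : Subgroup G)) = cj c (zc (S : Subgroup G)) := by
      rw [← cj_zc, ← cj_zc, he']
    rw [h2, cj_le_iff]
    have h3 : c⁻¹ ∈ normalizer (zl (S : Subgroup G) (CC y) : Set G) := inv_mem (le_normalizer_zl _ _ hc)
    rw [cj_eq_of_mem_normalizer h3]
    exact zc_le_zl _ _
  · have h1 := le_UU (S := (S : Subgroup G)) (y := y) (g := 1) (by rw [cj_one]; exact hy)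
    rwa [cj_one] at h1

omit [Finite G] in
theorem UU_smul (g : G) (y : G) : UU ((g • S : Sylow 2 G) : Subgroup G) y = UU (S : Subgroup G) y := by
  have hz : ∀ x : G, cj x (zc ((g • S : Sylow 2 G) : Subgroup G)) = cj (x * g) (zc (S : Subgroup G)) := by
    intro x
    have : zc ((g • S : Sylow 2 G) : Subgroup G) = cj g (zc (S : Subgroup G)) := cj_zc g S
    rw [this, cj_cj]
  refine le_antisymm (UU_le fun x hx => ?_) (UU_le fun x hx => ?_)
  · rw [hz] at hx ⊢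
    exact le_UU hx
  · have e : cj x (zc (S : Subgroup G)) = cj (x * g⁻¹) (zc ((g • S : Sylow 2 G) : Subgroup G)) := by
      rw [hz]; group
    rw [e] at hx ⊢
    exact le_UU hx

end basic

omit [Finite G] in
theorem mem_zc_smul {S : Sylow 2 G} {g x : G}
    (h : x ∈ cj g (zc (S : Subgroup G))) : x ∈ zc ((g • S : Sylow 2 G) : Subgroup G) := by
  have : zc ((g • S : Sylow 2 G) : Subgroup G) = cj g (zc (S : Subgroup G)) := cj_zc g S
  rwa [this]

/-- the counting of (2) -/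
theorem count {A U N : Subgroup G} (hN : N ≤ U)
    (hex : (centralizer (A : Set G)).relIndex U = (centralizer (U : Set G)).relIndex A) (hnov : NOv A N) :
    (centralizer ((A ⊓ centralizer (N : Set G) : Subgroup G) : Set G)).relIndex U ≤
      (centralizer (U : Set G)).relIndex (A ⊓ centralizer (N : Set G)) := by
  set B := A ⊓ centralizer (N : Set G) with hB
  set K := U ⊓ centralizer (B : Set G) with hK
  have e2 : (centralizer (U : Set G)).relIndex B * (centralizer (N : Set G)).relIndex A =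
      (centralizer (U : Set G)).relIndex A := by
    have h1 : A ⊓ centralizer (U : Set G) ≤ B := inf_le_inf_left _ (centralizer_le hN)
    rw [← inf_relIndex_left A (centralizer (U : Set G)), ← relIndex_mul_relIndex (A ⊓ centralizer (U : Set G)) B A
      h1 inf_le_left]
    congr 1
    · rw [← inf_relIndex_left B (centralizer (U : Set G)), ← inf_relIndex_left B (A ⊓ centralizer (U : Set G))]
      congr 1
      rw [← inf_assoc, inf_eq_left.2 (inf_le_left : B ≤ A)]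
    · rw [hB, inf_relIndex_left]
  have e1 : (centralizer (A : Set G)).relIndex N * (centralizer (B : Set G)).relIndex U ≤
      (centralizer (A : Set G)).relIndex U := by
    have hNK : N ≤ K := le_inf hN (comm_symm inf_le_right)
    rw [← inf_relIndex_left U (centralizer (A : Set G)), ← relIndex_mul_relIndex (U ⊓ centralizer (A : Set G)) K U
      (inf_le_inf_left _ (centralizer_le inf_le_left)) inf_le_left]
    refine Nat.mul_le_mul ?_ ?_
    · refine le_trans (le_of_eq ?_) (Sigma.relIndex_le_right hNK)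
      rw [← inf_relIndex_right (U ⊓ centralizer (A : Set G)) N, ← inf_relIndex_right (centralizer (A : Set G)) N]
      congr 1
      rw [inf_comm U, inf_assoc, inf_eq_right.2 hN]
    · rw [hK, inf_relIndex_left]
  rw [hex, ← e2] at e1
  have h3 : (centralizer (A : Set G)).relIndex N * (centralizer (B : Set G)).relIndex U ≤
      (centralizer (A : Set G)).relIndex N * (centralizer (U : Set G)).relIndex B := by
    refine e1.trans ?_
    rw [Nat.mul_comm]
    exact Nat.mul_le_mul_right _ hnov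
  exact Nat.le_of_mul_le_mul_left h3 (Nat.pos_of_ne_zero (Sigma.rne _ _))

/-! ### The graph -/

section graph

variable {ι : Type*} (Zi : ι → Subgroup G)

/-- `y ~ y'`: two vectors of different types in a common flag -/
def Adj (y y' : G) : Prop :=
  ∃ (g : G) (i j : ι), i ≠ j ∧ (y ∈ cj g (Zi i) ∧ y ≠ 1) ∧ (y' ∈ cj g (Zi j) ∧ y' ≠ 1)

/-- vertices -/
def Vx (y : G) : Prop := ∃ (g : G) (i : ι), y ∈ cj g (Zi i) ∧ y ≠ 1

/-- chains -/
inductive Ch : ℕ → G → G → Prop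
  | zero (a : G) : Vx Zi a → Ch 0 a a
  | succ {n : ℕ} {a b c : G} : Ch n a b → Adj Zi b c → Ch (n + 1) a c

variable {Zi}

omit [Finite G]

theorem Adj.symm {a b : G} (h : Adj Zi a b) : Adj Zi b a := by
  obtain ⟨g, i, j, hij, h1, h2⟩ := h
  exact ⟨g, j, i, hij.symm, h2, h1⟩

theorem Adj.vx {a b : G} (h : Adj Zi a b) : Vx Zi a := by
  obtain ⟨g, i, j, hij, h1, h2⟩ := h
  exact ⟨g, i, h1⟩

theorem conj_ne {h a : G} (ha : a ≠ 1) : h * a * h⁻¹ ≠ 1 := by
  intro h1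
  apply ha
  have e : a = h⁻¹ * (h * a * h⁻¹) * h := by group
  rw [e, h1]; group

theorem Adj.conj {a b : G} (h : Adj Zi a b) (x : G) : Adj Zi (x * a * x⁻¹) (x * b * x⁻¹) := by
  obtain ⟨g, i, j, hij, h1, h2⟩ := h
  refine ⟨x * g, i, j, hij, ⟨?_, conj_ne h1.2⟩, ⟨?_, conj_ne h2.2⟩⟩
  · rw [← cj_cj]; exact mem_cj_self h1.1
  · rw [← cj_cj]; exact mem_cj_self h2.1

theorem Vx.conj {a : G} (h : Vx Zi a) (x : G) : Vx Zi (x * a * x⁻¹) := by
  obtain ⟨g, i, h1⟩ := h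
  refine ⟨x * g, i, ?_, conj_ne h1.2⟩
  rw [← cj_cj]; exact mem_cj_self h1.1

theorem Ch.conj {n : ℕ} {a b : G} (h : Ch Zi n a b) (x : G) : Ch Zi n (x * a * x⁻¹) (x * b * x⁻¹) := by
  induction h with
  | zero a h => exact Ch.zero _ (h.conj x)
  | succ _ h1 ih => exact Ch.succ ih (h1.conj x)

theorem Ch.vx_left {n : ℕ} {a b : G} (h : Ch Zi n a b) : Vx Zi a := by
  induction h with
  | zero a h => exact h
  | succ _ _ ih => exact ih

theorem Ch.vx_right {n : ℕ} {a b : G} (h : Ch Zi n a b) : Vx Zi b := by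
  cases h with
  | zero a h => exact h
  | succ _ h => exact h.symm.vx

theorem Ch.cons {n : ℕ} {a b c : G} (h : Adj Zi a b) (h1 : Ch Zi n b c) : Ch Zi (n + 1) a c := by
  induction h1 with
  | zero b hb => exact Ch.succ (Ch.zero a h.vx) h
  | succ _ h2 ih => exact Ch.succ (ih h) h2

theorem Ch.symm {n : ℕ} {a b : G} (h : Ch Zi n a b) : Ch Zi n b a := by
  induction h with
  | zero a h => exact Ch.zero _ h
  | succ _ h1 ih => exact Ch.cons h1.symm ih

theorem Ch.trans {n m : ℕ} {a b c : G} (h : Ch Zi n a b) (h1 : Ch Zi m b c) : Ch Zi (n + m) a c := by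
  induction h1 with
  | zero b hb => exact h
  | succ _ h2 ih => exact Ch.succ (ih h) h2

end graph

/-! ### The frame -/

/-- the frame of THEOREM T3 -/
structure T3 {ι : Type*} (S : Sylow 2 G) (Zi : ι → Subgroup G) : Prop where
  le : ∀ i, Zi i ≤ zc (S : Subgroup G)
  ne : ∀ i, Zi i ≠ ⊥
  disj : ∀ i j, i ≠ j → Zi i ⊓ Zi j = ⊥
  three : ∀ i j : ι, ∃ k, k ≠ i ∧ k ≠ j
  perm : ∀ n ∈ normalizer ((S : Subgroup G) : Set G), ∀ i, ∃ j, cj n (Zi i) = Zi j
  par : ∀ P, IsPar (S : Subgroup G) P → (∃ i, ∃ x ∈ Zi i, x ≠ 1 ∧ P ≤ CC x) →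
    P ≤ centralizer (zc (S : Subgroup G) : Set G) ∨
      ∃ j, Zi j ⊓ centralizer (P : Set G) = ⊥ ∧ ∀ i, i ≠ j → P ≤ centralizer (Zi i : Set G)
  nonloc : ∀ R : Subgroup G, IsPGroup 2 R →
    (∀ i, ∀ x ∈ Zi i, x ≠ 1 → CC x ≤ normalizer (R : Set G)) → R = ⊥

/-- The hypothesis of the geometric part: no exact `B` as in (2). -/
def KLB {ι : Type*} (S : Sylow 2 G) (Zi : ι → Subgroup G) : Prop :=
  ∀ i j k, i ≠ j → i ≠ k → j ≠ k → ∀ b ∈ Zi i, b ≠ 1 → ∀ b' ∈ Zi j, b' ≠ 1 → ∀ w ∈ Zi k, w ≠ 1 →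
    ∀ B : Subgroup G, Ex B → (∀ x ∈ B, ∀ y ∈ B, x * y = y * x) → B ≤ o2 (CC b ⊓ CC b') → B ≤ o2 (CC b ⊓ CC w) →
      B ≤ centralizer (XZ b' (CC b ⊓ CC w) : Set G) →
      ¬ B ≤ centralizer (zl (S : Subgroup G) (CC b) : Set G) →
      (centralizer (B : Set G)).relIndex (zl (S : Subgroup G) (CC b)) =
        (centralizer (zl (S : Subgroup G) (CC b) : Set G)).relIndex B → False

/-- the vertex facts -/
structure VF (S : Subgroup G) (y : G) : Prop where
  mem : y ∈ UU S y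
  le : UU S y ≤ zc (o2 (CC y))
  ne : y ≠ 1

namespace VF

variable {S : Subgroup G} {y : G} (h : VF S y)
include h

omit [Finite G] in
theorem le_o2 : UU S y ≤ o2 (CC y) := h.le.trans (zc_le _)

omit [Finite G] in
theorem ex : Ex (UU S y) := fun x hx => MinSimple.VModule.zc_sq _ x (h.le hx)

omit [Finite G] in
theorem o2_le : o2 (CC y) ≤ centralizer (UU S y : Set G) :=
  (le_centralizer_zc _).trans (centralizer_le h.le)

omit [Finite G] in
theorem comm : UU S y ≤ centralizer (UU S y : Set G) := h.le_o2.trans h.o2_le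

end VF

section frame

variable {ι : Type*} {S : Sylow 2 G} {Zi : ι → Subgroup G}

theorem vf_of (hc : IsCharacteristicTwoType G) {y : G} (hy : y ∈ zc (S : Subgroup G)) (hy1 : y ≠ 1) :
    VF (S : Subgroup G) y := by
  refine ⟨?_, ?_, hy1⟩
  · rw [UU_eq hy]; exact zc_le_zl _ _ hy
  · rw [UU_eq hy]; exact (isLoc_CC hy hy1).zl_le S hc

omit [Finite G] in
theorem VF.conj {y : G} (h : VF (S : Subgroup G) y) (x : G) : VF (S : Subgroup G) (x * y * x⁻¹) := by
  refine ⟨?_, ?_, conj_ne h.ne⟩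
  · rw [← cj_UU]; exact mem_cj_self h.mem
  · rw [← cj_UU, ← cj_CC, cj_o2, cj_zc]
    exact cj_mono x h.le

namespace T3

variable (h : T3 S Zi) (hc : IsCharacteristicTwoType G)
include h hc

theorem vf {y : G} (hy : Vx Zi y) : VF (S : Subgroup G) y := by
  obtain ⟨g, i, h1, h2⟩ := hy
  have h3 : g⁻¹ * y * g ∈ zc (S : Subgroup G) := h.le i (mem_cj.1 h1)
  have h4 : g⁻¹ * y * g ≠ 1 := by
    intro h5
    apply h2
    have e : y = g * (g⁻¹ * y * g) * g⁻¹ := by group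
    rw [e, h5]; group
  have h5 := (vf_of hc h3 h4).conj g
  have e : g * (g⁻¹ * y * g) * g⁻¹ = y := by group
  rwa [e] at h5

omit [Finite G] hc in
theorem exists_mem (i : ι) : ∃ x ∈ Zi i, x ≠ 1 := by
  by_contra hcon
  push Not at hcon
  exact h.ne i ((eq_bot_iff_forall _).2 hcon)

omit [Finite G] h hc in
theorem vx_of {i : ι} {x : G} (hx : x ∈ Zi i) (hx1 : x ≠ 1) : Vx Zi x :=
  ⟨1, i, by rw [cj_one]; exact hx, hx1⟩

omit [Finite G] h hc in
theorem adj_of {i j : ι} (hij : i ≠ j) {x y : G} (hx : x ∈ Zi i) (hx1 : x ≠ 1) (hy : y ∈ Zi j) (hy1 : y ≠ 1) :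
    Adj Zi x y :=
  ⟨1, i, j, hij, ⟨by rw [cj_one]; exact hx, hx1⟩, ⟨by rw [cj_one]; exact hy, hy1⟩⟩

omit [Finite G] hc in
theorem ch_flag {i j : ι} {x y : G} (hx : x ∈ Zi i) (hx1 : x ≠ 1) (hy : y ∈ Zi j) (hy1 : y ≠ 1) :
    ∃ n, Ch Zi n x y := by
  by_cases hij : i = j
  · obtain ⟨k, hk, -⟩ := h.three i j
    obtain ⟨z, hz, hz1⟩ := h.exists_mem k
    exact ⟨_, Ch.succ (Ch.succ (Ch.zero x (vx_of hx hx1)) (adj_of hk.symm hx hx1 hz hz1))
      (adj_of (hij ▸ hk) hz hz1 hy hy1)⟩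
  · exact ⟨_, Ch.succ (Ch.zero x (vx_of hx hx1)) (adj_of hij hx hx1 hy hy1)⟩

/-- some `[UU a, UU b] ≠ 1` -/
theorem exists_crit [Nonempty ι] : ∃ n a b, Ch Zi n a b ∧ ¬ UU (S : Subgroup G) a ≤
    centralizer (UU (S : Subgroup G) b : Set G) := by
  by_contra hcon
  push Not at hcon
  obtain ⟨i₀⟩ := ‹Nonempty ι›
  obtain ⟨x₀, hx₀, hx1⟩ := h.exists_mem i₀
  set R : Subgroup G := ⨆ y : {y : G // ∃ n, Ch Zi n x₀ y}, UU (S : Subgroup G) y with hR
  have leR : ∀ y, (∃ n, Ch Zi n x₀ y) → UU (S : Subgroup G) y ≤ R := fun y hy =>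
    le_iSup (fun y : {y : G // ∃ n, Ch Zi n x₀ y} => UU (S : Subgroup G) (y : G)) ⟨y, hy⟩
  have hcomm : R ≤ centralizer (R : Set G) := by
    refine iSup_le fun ⟨y, n, hy⟩ => ?_
    refine comm_symm (iSup_le fun ⟨y', m, hy'⟩ => ?_)
    exact hcon _ _ _ (hy'.symm.trans hy)
  have hex : ∀ r ∈ R, r ^ 2 = 1 := by
    let E : Subgroup G :=
      { carrier := {r | r ∈ R ∧ r ^ 2 = 1}
        one_mem' := ⟨one_mem _, one_pow _⟩
        mul_mem' := by
          rintro a b ⟨ha, ha2⟩ ⟨hb, hb2⟩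
          refine ⟨mul_mem ha hb, ?_⟩
          have e : Commute a b := (mem_centralizer_iff.1 (hcomm hb) a ha)
          rw [e.mul_pow, ha2, hb2, one_mul]
        inv_mem' := by
          rintro a ⟨ha, ha2⟩
          exact ⟨inv_mem ha, by rw [inv_pow, ha2, inv_one]⟩ }
    have hRE : R ≤ E := by
      refine iSup_le fun ⟨y, n, hy⟩ => ?_
      intro r hr
      exact ⟨leR y ⟨n, hy⟩ hr, (h.vf hc hy.vx_right).ex r hr⟩
    exact fun r hr => (hRE hr).2
  have hR1 : R = ⊥ := by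
    refine h.nonloc R (fun r => ⟨1, ?_⟩) ?_
    · apply Subtype.ext
      simpa using hex r.1 r.2
    · intro i x hx hx1' c hcx
      obtain ⟨m, hm⟩ := h.ch_flag hx₀ hx1 hx hx1'
      have key : ∀ c ∈ CC x, cj c R ≤ R := by
        intro c hcx
        rw [cj_le_iff]
        refine iSup_le fun ⟨y, n, hy⟩ => ?_
        rw [← cj_le_iff, cj_UU]
        apply leR
        have h1 := (hm.symm.trans hy).conj c
        rw [mem_CC.1 hcx] at h1
        exact ⟨_, hm.trans h1⟩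
      rw [mem_normalizer_iff_cj]
      refine le_antisymm (key c hcx) ?_
      have h2 := cj_mono c (key c⁻¹ (inv_mem hcx))
      rwa [cj_cj_inv] at h2
  have h1 : x₀ ∈ R := leR x₀ ⟨0, Ch.zero _ (vx_of hx₀ hx1)⟩ (h.vf hc (vx_of hx₀ hx1)).mem
  rw [hR1, mem_bot] at h1
  exact hx1 h1

/-! ### Neighbours and the residue -/

omit hc in
/-- a neighbour of `x ∈ Zi i` is `c y c⁻¹`, `c ∈ C(x)`, `y ∈ Zi k`, `k ≠ i` -/
theorem exists_nb {i : ι} {x y : G} (hx : x ∈ Zi i) (hx1 : x ≠ 1) (hy : Adj Zi x y) :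
    ∃ c ∈ CC x, ∃ k, k ≠ i ∧ ∃ y' ∈ Zi k, y' ≠ 1 ∧ y = c * y' * c⁻¹ := by
  obtain ⟨g, j, k, hjk, ⟨h1, -⟩, h2, h2'⟩ := hy
  have hxz := h.le i hx
  have h3 : ((g • S : Sylow 2 G) : Subgroup G) ≤ CC x := by
    refine le_CC ?_
    have : zc ((g • S : Sylow 2 G) : Subgroup G) = cj g (zc (S : Subgroup G)) := cj_zc g S
    rw [this]
    exact cj_mono g (h.le j) h1
  obtain ⟨c, hc, he⟩ := NO3S.PT.exists_conj (le_CC hxz) h3
  have he' : cj c (S : Subgroup G) = cj g (S : Subgroup G) := he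
  have hn : c⁻¹ * g ∈ normalizer ((S : Subgroup G) : Set G) := by
    rw [mem_normalizer_iff_cj, ← cj_cj, ← he', cj_inv_cj]
  obtain ⟨j', hj'⟩ := h.perm _ hn j
  obtain ⟨k', hk'⟩ := h.perm _ hn k
  have ej : cj g (Zi j) = cj c (Zi j') := by rw [← hj', cj_cj, mul_inv_cancel_left]
  have ek : cj g (Zi k) = cj c (Zi k') := by rw [← hk', cj_cj, mul_inv_cancel_left]
  rw [ej, mem_cj] at h1
  rw [ek, mem_cj] at h2
  have hx' : c⁻¹ * x * c = x := by
    have := mem_CC.1 (inv_mem hc)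
    rwa [inv_inv] at this
  rw [hx'] at h1
  have e1 : j' = i := by
    by_contra hne
    have h4 : x ∈ Zi j' ⊓ Zi i := ⟨h1, hx⟩
    rw [h.disj _ _ hne, mem_bot] at h4
    exact hx1 h4
  have e2 : k' ≠ i := by
    rintro rfl
    rw [e1] at hj'
    have h5 : cj (c⁻¹ * g) (Zi j) = cj (c⁻¹ * g) (Zi k) := by rw [hj', hk']
    have h6 : Zi j = Zi k := by
      have := congrArg (cj (c⁻¹ * g)⁻¹) h5
      rwa [cj_inv_cj, cj_inv_cj] at this
    apply h.ne j
    have := h.disj _ _ hjk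
    rwa [← h6, inf_idem] at this
  refine ⟨c, hc, k', e2, c⁻¹ * y * c, h2, ?_, by group⟩
  intro h7
  apply h2'
  have e : y = c * (c⁻¹ * y * c) * c⁻¹ := by group
  rw [e, h7]; group

omit hc in
/-- the residue of `x ∈ Zi i` is connected -/
theorem residue {i : ι} {x : G} (hx : x ∈ Zi i) (hx1 : x ≠ 1) {Pr : G → Prop}
    (hPr : ∀ c ∈ CC x, ∀ j k, j ≠ i → k ≠ i → j ≠ k → ∀ y ∈ Zi j, y ≠ 1 → ∀ y' ∈ Zi k, y' ≠ 1 →
      Pr (c * y * c⁻¹) → Pr (c * y' * c⁻¹)) {y₀ : G} (h₀ : Adj Zi x y₀) (hp : Pr y₀) :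
    ∀ y, Adj Zi x y → Pr y := by
  have hxz := h.le i hx
  -- `Good c`
  have good : ∀ c ∈ CC x, ∀ j, j ≠ i → ∀ y ∈ Zi j, y ≠ 1 → Pr (c * y * c⁻¹) →
      ∀ k, k ≠ i → ∀ y' ∈ Zi k, y' ≠ 1 → Pr (c * y' * c⁻¹) := by
    intro c hcx j hj y hy hy1 hPy k hk y' hy' hy1'
    by_cases hjk : j = k
    · obtain ⟨l, hl, hl'⟩ := h.three i j
      obtain ⟨z, hz, hz1⟩ := h.exists_mem l
      have h1 := hPr c hcx j l hj hl hl'.symm y hy hy1 z hz hz1 hPy
      exact hPr c hcx l k hl hk (hjk ▸ hl') z hz hz1 y' hy' hy1' h1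
    · exact hPr c hcx j k hj hk hjk y hy hy1 y' hy' hy1' hPy
  obtain ⟨c₀, hc₀, k₀, hk₀, y₁, hy₁, hy₁1, rfl⟩ := h.exists_nb hx hx1 h₀
  set GS : G → Prop := fun c => ∀ k, k ≠ i → ∀ y ∈ Zi k, y ≠ 1 → Pr (c * y * c⁻¹) with hGS
  have g₀ : GS c₀ := good c₀ hc₀ k₀ hk₀ y₁ hy₁ hy₁1 hp
  -- the subgroup of all `p ∈ C(x)` with `GS c → GS (c p)`
  let Y : Subgroup G :=
    { carrier := {p | p ∈ CC x ∧ ∀ c ∈ CC x, GS c ↔ GS (c * p)}
      one_mem' := ⟨one_mem _, fun c _ => by rw [mul_one]⟩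
      mul_mem' := by
        rintro a b ⟨ha, ha2⟩ ⟨hb, hb2⟩
        refine ⟨mul_mem ha hb, fun c hc => ?_⟩
        rw [ha2 c hc, hb2 _ (mul_mem hc ha), mul_assoc]
      inv_mem' := by
        rintro a ⟨ha, ha2⟩
        refine ⟨inv_mem ha, fun c hc => ?_⟩
        rw [ha2 (c * a⁻¹) (mul_mem hc (inv_mem ha)), inv_mul_cancel_right] }
  have memY : ∀ p ∈ CC x, (∀ c ∈ CC x, GS c → GS (c * p)) → (∀ c ∈ CC x, GS c → GS (c * p⁻¹)) → p ∈ Y := by
    intro p hp h1 h2
    refine ⟨hp, fun c hc => ⟨h1 c hc, fun h3 => ?_⟩⟩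
    have h4 := h2 _ (mul_mem hc hp) h3
    rwa [mul_inv_cancel_right] at h4
  have hY : CC x ≤ Y := by
    refine (isLoc_CC hxz hx1).le_of_forall S ?_ ?_
    · -- `N(S)`
      have key : ∀ n ∈ CC x ⊓ normalizer ((S : Subgroup G) : Set G), ∀ c ∈ CC x, GS c → GS (c * n) := by
        rintro n ⟨hn1, hn2⟩ c hcx hgc k hk y hy hy1
        obtain ⟨k', hk'⟩ := h.perm n hn2 k
        obtain ⟨i', hi'⟩ := h.perm n hn2 i
        have ei : i' = i := by
          by_contra hne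
          have h4 : x ∈ Zi i' ⊓ Zi i := by
            refine ⟨?_, hx⟩
            rw [← hi', ← mem_CC.1 hn1]
            exact mem_cj_self hx
          rw [h.disj _ _ hne, mem_bot] at h4
          exact hx1 h4
        have ek : k' ≠ i := by
          intro hki
          rw [ei] at hi'
          rw [hki] at hk'
          have h6 : Zi i = Zi k := by
            have := congrArg (cj n⁻¹) (hi'.trans hk'.symm)
            rwa [cj_inv_cj, cj_inv_cj] at this
          apply h.ne i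
          have := h.disj _ _ (Ne.symm hk)
          rwa [← h6, inf_idem] at this
        have e : c * n * y * (c * n)⁻¹ = c * (n * y * n⁻¹) * c⁻¹ := by group
        rw [e]
        refine hgc k' ek _ ?_ (conj_ne hy1)
        rw [← hk']
        exact mem_cj_self hy
      intro n hn
      exact memY n hn.1 (key n hn) (key n⁻¹ (inv_mem hn))
    · intro P hP hPx
      have key : ∃ l, l ≠ i ∧ P ≤ centralizer (Zi l : Set G) := by
        rcases h.par P hP ⟨i, x, hx, hx1, hPx⟩ with h1 | ⟨j, h1, h2⟩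
        · obtain ⟨l, hl, -⟩ := h.three i i
          exact ⟨l, hl, h1.trans (centralizer_le (h.le l))⟩
        · by_cases hij : j = i
          · exfalso
            rw [hij] at h1
            have h3 : x ∈ Zi i ⊓ centralizer (P : Set G) := by
              refine ⟨hx, mem_centralizer_iff.2 fun p hp => ?_⟩
              exact mul_inv_eq_iff_eq_mul.1 (mem_CC.1 (hPx hp))
            rw [h1, mem_bot] at h3
            exact hx1 h3
          · obtain ⟨l, hl, hl'⟩ := h.three i j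
            exact ⟨l, hl, h2 l hl'⟩
      obtain ⟨l, hl, hPl⟩ := key
      obtain ⟨z, hz, hz1⟩ := h.exists_mem l
      have hfix : ∀ p ∈ P, p * z * p⁻¹ = z := by
        intro p hp
        have := mem_centralizer_iff.1 (hPl hp) z hz
        rw [← this, mul_inv_cancel_right]
      have key : ∀ p ∈ P, ∀ c ∈ CC x, GS c → GS (c * p) := by
        intro p hp c hcx hgc
        have h1 : Pr (c * p * z * (c * p)⁻¹) := by
          have e : c * p * z * (c * p)⁻¹ = c * (p * z * p⁻¹) * c⁻¹ := by group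
          rw [e, hfix p hp]
          exact hgc l hl z hz hz1
        exact good _ (mul_mem hcx (hPx hp)) l hl z hz hz1 h1
      intro p hp
      exact memY p (hPx hp) (key p hp) (key p⁻¹ (inv_mem hp))
  intro y hy
  obtain ⟨c, hcx, k, hk, y', hy', hy1', rfl⟩ := h.exists_nb hx hx1 hy
  have h1 : c₀⁻¹ * c ∈ Y := hY (mul_mem (inv_mem hc₀) hcx)
  have h2 := (h1.2 c₀ hc₀).1 g₀
  rw [mul_inv_cancel_left] at h2
  exact h2 k hk y' hy' hy1'

/-! ### Adjacent vertices -/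

omit [Finite G] hc in
theorem zc_flag {g x : G} {i : ι} (hx : x ∈ cj g (Zi i)) : x ∈ zc ((g • S : Sylow 2 G) : Subgroup G) :=
  mem_zc_smul (cj_mono g (h.le i) hx)

omit hc [Finite G] in
theorem mem_UU_of {g x y : G} {i j : ι} (hx : x ∈ cj g (Zi i)) (hy : y ∈ cj g (Zi j)) :
    x ∈ UU (S : Subgroup G) y :=
  le_UU (cj_mono g (h.le j) hy) (cj_mono g (h.le i) hx)

omit hc in
theorem adj_o2 {b b' : G} (hb : Adj Zi b' b) : o2 (CC b') ≤ o2 (CC b ⊓ CC b') := by
  obtain ⟨g, i, j, -, ⟨h1, -⟩, h2, -⟩ := hb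
  exact o2_le_o2 (g • S) (le_inf (le_CC (h.zc_flag h2)) (le_CC (h.zc_flag h1))) inf_le_right

omit hc [Finite G] in
theorem adj_XZ_le {b b' : G} (hb : Adj Zi b' b) : XZ b' (CC b) ≤ UU (S : Subgroup G) b := by
  obtain ⟨g, i, j, -, ⟨h1, -⟩, h2, -⟩ := hb
  exact XZ_le fun p hp => (mem_normalizer_iff.1 (CC_le_norm _ _ hp) _).1 (h.mem_UU_of h1 h2)

omit hc in
theorem adj_step {b b' : G} (hb : Adj Zi b' b) :
    o2 (CC b') ⊓ centralizer (UU (S : Subgroup G) b : Set G) ≤ o2 (CC b) :=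
  (inf_le_inf (h.adj_o2 hb) (centralizer_le (h.adj_XZ_le hb))).trans inf_cent_le

theorem chain_le {m : ℕ}
    (hmin : ∀ k ≤ m, ∀ a b, Ch Zi k a b → UU (S : Subgroup G) a ≤ centralizer (UU (S : Subgroup G) b : Set G))
    {k : ℕ} (hk : k ≤ m) {a c : G} (hch : Ch Zi k a c) : UU (S : Subgroup G) a ≤ o2 (CC c) := by
  induction hch with
  | zero a ha => exact (h.vf hc ha).le_o2
  | @succ k a b c hab hbc ih =>
    exact (le_inf (ih (by omega)) (hmin _ hk _ _ (Ch.succ hab hbc))).trans (h.adj_step hbc)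

variable (ml : MLK.{u, u}) (kg : ∀ (T : Sylow 2 G) (R : Subgroup G), IsLoc (T : Subgroup G) R → IsKGroup R)
include ml kg

theorem adj_nov {b b' : G} (hb : Adj Zi b' b) {A : Subgroup G} (hA : A ≤ o2 (CC b ⊓ CC b')) (el : Ex A) :
    NOv A (UU (S : Subgroup G) b) := by
  have h1 : NOv A (XZ b' (CC b)) := by
    obtain ⟨g, i, j, -, ⟨h1, -⟩, h2, h2'⟩ := hb
    exact no_z hc ml (kg (g • S)) (isLoc_CC (h.zc_flag h2) h2') (h.zc_flag h1) hA el
  refine NOv.mul (h.adj_XZ_le hb) bot_le ?_ h1 ?_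
  · refine inf_le_left.trans (((inf_le_inf_right _ hA).trans inf_cent_le).trans ?_)
    exact (h.vf hc hb.symm.vx).o2_le
  · unfold NOv
    rw [relIndex_eq_one.2]
    · exact Nat.one_le_iff_ne_zero.2 (Sigma.rne _ _)
    · intro x _
      rw [mem_centralizer_iff]
      intro y hy
      rw [SetLike.mem_coe, mem_bot] at hy
      rw [hy, one_mul, mul_one]

/-- **(1) EXACT.** -/
theorem exact_of {m : ℕ}
    (hmin : ∀ k ≤ m, ∀ a b, Ch Zi k a b → UU (S : Subgroup G) a ≤ centralizer (UU (S : Subgroup G) b : Set G))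
    {a b b' : G} (hch : Ch Zi m a b') (hb : Adj Zi b' b) :
    (centralizer (UU (S : Subgroup G) a : Set G)).relIndex (UU (S : Subgroup G) b) =
      (centralizer (UU (S : Subgroup G) b : Set G)).relIndex (UU (S : Subgroup G) a) := by
  have key : ∀ {a b b' : G}, Ch Zi m a b' → Adj Zi b' b →
      NOv (UU (S : Subgroup G) a) (UU (S : Subgroup G) b) := by
    intro a b b' hch hb
    exact h.adj_nov hc ml kg hb ((h.chain_le hc hmin le_rfl hch).trans (h.adj_o2 hb)) (h.vf hc hch.vx_left).ex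
  refine le_antisymm ?_ (key hch hb)
  have h1 := (Ch.succ hch hb).symm
  cases h1 with
  | succ h2 h3 => exact key h2 h3

omit hc ml kg in
/-- the hypothesis at a conjugate flag -/
theorem klb_conj (hk : KLB S Zi) {g : G} {i j k : ι}
    (hij : i ≠ j) (hik : i ≠ k) (hjk : j ≠ k) {b b' w : G} (hb : b ∈ cj g (Zi i)) (hb1 : b ≠ 1)
    (hb' : b' ∈ cj g (Zi j)) (hb1' : b' ≠ 1) (hw : w ∈ cj g (Zi k)) (hw1 : w ≠ 1) {B : Subgroup G} (el : Ex B)
    (ab : ∀ x ∈ B, ∀ y ∈ B, x * y = y * x) (h1 : B ≤ o2 (CC b ⊓ CC b')) (h2 : B ≤ o2 (CC b ⊓ CC w))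
    (h3 : B ≤ centralizer (XZ b' (CC b ⊓ CC w) : Set G))
    (h4 : ¬ B ≤ centralizer (UU (S : Subgroup G) b : Set G))
    (h5 : (centralizer (B : Set G)).relIndex (UU (S : Subgroup G) b) =
        (centralizer (UU (S : Subgroup G) b : Set G)).relIndex B) : False := by
  obtain ⟨b, hb₀, rfl⟩ : ∃ b₀ ∈ Zi i, b = g * b₀ * g⁻¹ := ⟨g⁻¹ * b * g, mem_cj.1 hb, by group⟩
  obtain ⟨b', hb₀', rfl⟩ : ∃ b₀ ∈ Zi j, b' = g * b₀ * g⁻¹ := ⟨g⁻¹ * b' * g, mem_cj.1 hb', by group⟩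
  obtain ⟨w, hw₀, rfl⟩ : ∃ b₀ ∈ Zi k, w = g * b₀ * g⁻¹ := ⟨g⁻¹ * w * g, mem_cj.1 hw, by group⟩
  obtain ⟨B, rfl⟩ : ∃ B₀, B = cj g B₀ := ⟨cj g⁻¹ B, (cj_cj_inv g B).symm⟩
  have inj : ∀ {x y : Subgroup G}, cj g x ≤ cj g y → x ≤ y := by
    intro x y hxy
    have := cj_mono g⁻¹ hxy
    rwa [cj_inv_cj, cj_inv_cj] at this
  rw [← cj_CC, ← cj_CC, ← cj_inf, cj_o2] at h1
  rw [← cj_CC, ← cj_CC, ← cj_inf, cj_o2] at h2
  rw [← cj_CC, ← cj_CC, ← cj_inf, ← cj_XZ, cj_cent_iff] at h3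
  rw [← cj_UU, cj_cent_iff] at h4
  rw [← cj_UU, ← cj_centralizer, ← cj_centralizer, relIndex_cj, relIndex_cj] at h5
  have hne : ∀ {x : G}, g * x * g⁻¹ ≠ 1 → x ≠ 1 := by
    intro x hx h
    apply hx
    rw [h]; group
  rw [UU_eq (h.le i hb₀)] at h4 h5
  refine hk i j k hij hik hjk b hb₀ (hne hb1) b' hb₀' (hne hb1') w hw₀ (hne hw1) B ?_ ?_ (inj h1) (inj h2) h3 h4 h5
  · intro x hx
    have h6 := el _ (mem_cj_self hx)
    have e : (g * x * g⁻¹) ^ 2 = g * x ^ 2 * g⁻¹ := by rw [pow_two, pow_two]; group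
    rw [e] at h6
    have e2 : x ^ 2 = g⁻¹ * (g * x ^ 2 * g⁻¹) * g := by group
    rw [e2, h6]; group
  · intro x hx y hy
    have h6 := ab _ (mem_cj_self hx) _ (mem_cj_self hy)
    have e : x * y = g⁻¹ * ((g * x * g⁻¹) * (g * y * g⁻¹)) * g := by group
    have e2 : y * x = g⁻¹ * ((g * y * g⁻¹) * (g * x * g⁻¹)) * g := by group
    rw [e, h6, ← e2]

/-- **(2) THE THIRD CENTRE.** -/
theorem third (hk : KLB S Zi) {m : ℕ}
    (hmin : ∀ k ≤ m, ∀ a b, Ch Zi k a b → UU (S : Subgroup G) a ≤ centralizer (UU (S : Subgroup G) b : Set G))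
    {a : G} {g : G} {i j k : ι} (hij : i ≠ j) (hik : i ≠ k) (hjk : j ≠ k) {b b' w : G}
    (hb : b ∈ cj g (Zi i)) (hb1 : b ≠ 1) (hb' : b' ∈ cj g (Zi j)) (hb1' : b' ≠ 1)
    (hw : w ∈ cj g (Zi k)) (hw1 : w ≠ 1) (hch : Ch Zi m a b') :
    UU (S : Subgroup G) a ⊓ centralizer (XZ b' (CC b ⊓ CC w) : Set G) ≤
      centralizer (UU (S : Subgroup G) b : Set G) := by
  have hadj : Adj Zi b' b := ⟨g, j, i, hij.symm, ⟨hb', hb1'⟩, hb, hb1⟩
  have va := h.vf hc hch.vx_left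
  set A := UU (S : Subgroup G) a with hA
  have e1 : A ≤ o2 (CC b ⊓ CC b') := (h.chain_le hc hmin le_rfl hch).trans (h.adj_o2 hadj)
  have hbz := h.zc_flag hb
  have hbz' := h.zc_flag hb'
  have hwz := h.zc_flag hw
  have hR : IsLoc ((g • S : Sylow 2 G) : Subgroup G) (CC b ⊓ CC w) :=
    (isLoc_CC hbz hb1).of_le (g • S) (le_inf (le_CC hbz) (le_CC hwz)) inf_le_left
  have e2 : A ≤ o2 ((CC b ⊓ CC w) ⊓ CC b') :=
    e1.trans (o2_le_o2 (g • S) (le_inf (le_inf (le_CC hbz) (le_CC hwz)) (le_CC hbz'))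
      (le_inf (inf_le_left.trans inf_le_left) inf_le_right))
  have hnov : NOv A (XZ b' (CC b ⊓ CC w)) := no_z hc ml (kg (g • S)) hR hbz' e2 va.ex
  have hN : XZ b' (CC b ⊓ CC w) ≤ UU (S : Subgroup G) b :=
    XZ_le fun p hp => (mem_normalizer_iff.1 (CC_le_norm _ _ hp.1) _).1 (h.mem_UU_of hb' hb)
  have hex := h.exact_of hc ml kg hmin hch hadj
  have hcount := count hN hex hnov
  set B := A ⊓ centralizer (XZ b' (CC b ⊓ CC w) : Set G) with hB
  by_contra hcon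
  refine h.klb_conj hk hij hik hjk hb hb1 hb' hb1' hw hw1 (B := B) (fun x hx => va.ex x hx.1) ?_
    (inf_le_left.trans e1) (((inf_le_inf_right _ e2).trans inf_cent_le)) inf_le_right hcon ?_
  · intro x hx y hy
    exact (mem_centralizer_iff.1 (va.comm hy.1) x hx.1)
  · refine le_antisymm hcount ?_
    exact h.adj_nov hc ml kg hadj (inf_le_left.trans e1) fun x hx => va.ex x hx.1

/-- the residue argument of (3) -/
theorem all_nb (hk : KLB S Zi) {m : ℕ}
    (hmin : ∀ k ≤ m, ∀ a b, Ch Zi k a b → UU (S : Subgroup G) a ≤ centralizer (UU (S : Subgroup G) b : Set G))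
    {a x : G} {i : ι} (hx : x ∈ Zi i) (hx1 : x ≠ 1) (hch : Ch Zi m a x) {y₀ : G} (h₀ : Adj Zi x y₀)
    (hp : ¬ UU (S : Subgroup G) a ≤ centralizer (UU (S : Subgroup G) y₀ : Set G)) :
    ∀ y, Adj Zi x y → ¬ UU (S : Subgroup G) a ≤ centralizer (UU (S : Subgroup G) y : Set G) := by
  refine h.residue hx hx1 (Pr := fun y => ¬ UU (S : Subgroup G) a ≤ centralizer (UU (S : Subgroup G) y : Set G))
    ?_ h₀ hp
  intro c hcx j k hj hk' hjk y hy hy1 y' hy' hy1' h1 h2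
  apply h1
  have hxc : x ∈ cj c (Zi i) := by
    rw [← mem_CC.1 hcx]; exact mem_cj_self hx
  have h3 := h.third hc ml kg hk hmin (g := c) hj hjk hk'.symm (mem_cj_self hy) (conj_ne hy1) hxc hx1
    (mem_cj_self hy') (conj_ne hy1') hch
  refine le_trans (le_inf le_rfl (h2.trans (centralizer_le ?_))) h3
  exact XZ_le fun p hp => (mem_normalizer_iff.1 (CC_le_norm _ _ hp.2) _).1 (h.mem_UU_of hxc (mem_cj_self hy'))

/-- **THEOREM T3, geometric part.** -/
theorem false_of [Nonempty ι] (hk : KLB S Zi) : False := by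
  classical
  have hcr := h.exists_crit hc
  set n := Nat.find hcr with hn
  obtain ⟨a, b, hab, hnc⟩ := Nat.find_spec hcr
  have hmin' : ∀ k < n, ∀ a b, Ch Zi k a b →
      UU (S : Subgroup G) a ≤ centralizer (UU (S : Subgroup G) b : Set G) := by
    intro k hkn a b hch
    by_contra hcon
    exact Nat.find_min hcr hkn ⟨a, b, hch, hcon⟩
  rw [← hn] at hab
  generalize n = n at *
  cases hab with
  | zero a ha => exact hnc (h.vf hc ha).comm
  | @succ m _ b' _ h1 h2 =>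
    have hmin : ∀ k ≤ m, ∀ a b, Ch Zi k a b →
        UU (S : Subgroup G) a ≤ centralizer (UU (S : Subgroup G) b : Set G) :=
      fun k hkm => hmin' k (by omega)
    -- move `b'` into the base flag
    obtain ⟨g, i, j, hij, ⟨h3, h3'⟩, -⟩ := id h2
    set x := g⁻¹ * b' * g⁻¹⁻¹ with hx
    set a' := g⁻¹ * a * g⁻¹⁻¹ with ha'
    set y₀ := g⁻¹ * b * g⁻¹⁻¹ with hy₀
    have hxi : x ∈ Zi i := by
      have := mem_cj.1 h3
      rwa [hx, inv_inv]
    have hx1 : x ≠ 1 := conj_ne h3'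
    have hch : Ch Zi m a' x := h1.conj g⁻¹
    have hadj : Adj Zi x y₀ := h2.conj g⁻¹
    have hnc' : ¬ UU (S : Subgroup G) a' ≤ centralizer (UU (S : Subgroup G) y₀ : Set G) := by
      rw [ha', hy₀, ← cj_UU, ← cj_UU, cj_cent_iff]
      exact hnc
    have hall := h.all_nb hc ml kg hk hmin hxi hx1 hch hadj hnc'
    clear_value x a' y₀
    clear h3 h3' h1 h2 hnc
    cases hch with
    | succ h4 h5 => exact hall _ h5.symm (hmin _ (Nat.le_succ _) _ _ h4)
    | zero _ hv =>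
      -- `d = 1`
      obtain ⟨k, hki, -⟩ := h.three i i
      obtain ⟨l, hli, hlk⟩ := h.three i k
      obtain ⟨y, hy, hy1⟩ := h.exists_mem k
      obtain ⟨z, hz, hz1⟩ := h.exists_mem l
      have hxy := hall y (adj_of hki.symm hxi hx1 hy hy1)
      have hyx : ¬ UU (S : Subgroup G) y ≤ centralizer (UU (S : Subgroup G) x : Set G) :=
        fun h6 => hxy (comm_symm h6)
      have cj1 : ∀ {K : Subgroup G} {v : G}, v ∈ K → v ∈ cj 1 K := by
        intro K v hv; rwa [cj_one]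
      -- `x₁ = x`, `x₂ = y`, `x₃ = z`
      have t1 := h.third hc ml kg hk hmin (g := 1) hki.symm hli.symm hlk.symm (cj1 hxi) hx1 (cj1 hy) hy1
        (cj1 hz) hz1 (Ch.zero y (vx_of hy hy1))
      have t2 := h.third hc ml kg hk hmin (g := 1) hki hlk.symm hli.symm (cj1 hy) hy1 (cj1 hxi) hx1
        (cj1 hz) hz1 (Ch.zero x (vx_of hxi hx1))
      set E := zl (S : Subgroup G) (CC y ⊓ CC z) with hE
      have hSy : zc (S : Subgroup G) ≤ UU (S : Subgroup G) y := by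
        rw [UU_eq (h.le _ hy)]; exact zc_le_zl _ _
      have hSz : zc (S : Subgroup G) ≤ UU (S : Subgroup G) z := by
        rw [UU_eq (h.le _ hz)]; exact zc_le_zl _ _
      have hEy : E ≤ UU (S : Subgroup G) y := zl_le hSy (inf_le_left.trans (CC_le_norm _ _))
      have hEz : E ≤ UU (S : Subgroup G) z := zl_le hSz (inf_le_right.trans (CC_le_norm _ _))
      have hNz : XZ y (CC x ⊓ CC z) ≤ UU (S : Subgroup G) z :=
        XZ_le fun p hp => (mem_normalizer_iff.1 (CC_le_norm _ _ hp.2) _).1 (hSz (h.le _ hy))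
      have vz := h.vf hc (vx_of hz hz1)
      have hEx : E ≤ centralizer (UU (S : Subgroup G) x : Set G) :=
        (le_inf hEy (comm_mono vz.comm hEz hNz)).trans t1
      have hNE : XZ x (CC y ⊓ CC z) ≤ E :=
        XZ_le fun p hp => (mem_normalizer_iff.1 (le_normalizer_zl _ _ hp) _).1
          (zc_le_zl _ _ (h.le _ hxi))
      refine hxy (le_trans (le_inf le_rfl ?_) t2)
      exact (comm_symm hEx).trans (centralizer_le hNE)

end T3

end frame

end Cfsg.Agent.Omega.NOThreeL.RShape.TGeo
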